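/-
2-groups without non-cyclic abelian subgroups of order eight, and their odd automorphisms.
-/
import Cfsg.Agent.PGroups.MaxClass
import Cfsg.Agent.PGroups.CommutatorIndexFour
import Cfsg.Agent.Frobenius.UniqueSubgroup
import Cfsg.Agent.RankOne.QuaternionAuto

set_option autoImplicit false

namespace Cfsg.Lib.EightMin

open Subgroup

/-- Every abelian subgroup of `Y` of order eight is cyclic. -/
def NN {G : Type*} [Group G] (Y : Subgroup G) : Prop :=
  ∀ A : Subgroup G, A ≤ Y → IsMulCommutative A → Nat.card A = 8 → IsCyclic A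

/-- A four group or a quaternion group of order eight. -/
def Small (Q : Type*) [Group Q] : Prop :=
  (Nat.card Q = 4 ∧ (∀ a b : Q, a * b = b * a) ∧ ∀ a : Q, a * a = 1) ∨
    Nonempty (Q ≃* QuaternionGroup 2)

/-- The four group on two commuting involutions. -/
def fourGroup {G : Type*} [Group G] (z t : G) (hz : z * z = 1) (ht : t * t = 1)
    (hzt : z * t = t * z) : Subgroup G where
  carrier := {1, z, t, z * t}
  one_mem' := Set.mem_insert _ _
  mul_mem' := by
    have h1 : t * z = z * t := hzt.symm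
    have h2 : z * (z * t) = t := by rw [← mul_assoc, hz, one_mul]
    have h3 : z * t * z = t := by rw [mul_assoc, h1, h2]
    have h4 : t * (z * t) = z := by rw [← mul_assoc, h1, mul_assoc, ht, mul_one]
    have h5 : z * t * t = z := by rw [mul_assoc, ht, mul_one]
    have h6 : z * t * (z * t) = 1 := by rw [mul_assoc, h4, hz]
    simp only [Set.mem_insert_iff, Set.mem_singleton_iff]
    rintro a b (rfl | rfl | rfl | rfl) (rfl | rfl | rfl | rfl) <;>
      simp [hz, ht, h1, h2, h3, h4, h5, h6]
  inv_mem' := by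
    have hz' : z⁻¹ = z := inv_eq_of_mul_eq_one_left hz
    have ht' : t⁻¹ = t := inv_eq_of_mul_eq_one_left ht
    simp only [Set.mem_insert_iff, Set.mem_singleton_iff]
    rintro a (rfl | rfl | rfl | rfl) <;> simp [hz', ht', hzt.symm]

theorem mem_fourGroup {G : Type*} [Group G] {z t : G} (hz : z * z = 1) (ht : t * t = 1)
    (hzt : z * t = t * z) {x : G} :
    x ∈ fourGroup z t hz ht hzt ↔ x = 1 ∨ x = z ∨ x = t ∨ x = z * t := by
  simp [fourGroup, ← SetLike.mem_coe]

theorem card_fourGroup {G : Type*} [Group G] {z t : G} (hz : z * z = 1) (ht : t * t = 1)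
    (hzt : z * t = t * z) (hz1 : z ≠ 1) (ht1 : t ≠ 1) (hne : z ≠ t) :
    Nat.card (fourGroup z t hz ht hzt) = 4 := by
  classical
  show Nat.card ↥(fourGroup z t hz ht hzt : Set G) = 4
  rw [← Nat.card_congr (Equiv.setCongr (show (({1, z, t, z * t} : Finset G) : Set G) =
    (fourGroup z t hz ht hzt : Set G) by
      ext x; simp [mem_fourGroup])), Nat.card_coe_set_eq, Set.ncard_coe_finset]
  have h2 : z * t ≠ z := fun e => ht1 (by simpa using e)
  have h3 : z * t ≠ t := fun e => hz1 (by simpa using e)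
  have h4 : z * t ≠ 1 := fun e => hne (by
    rw [← mul_one z, ← ht, ← mul_assoc, e, one_mul])
  rw [Finset.card_insert_of_notMem (by simp [hz1.symm, ht1.symm, h4.symm]),
    Finset.card_insert_of_notMem (by simp [hne, h2.symm]),
    Finset.card_insert_of_notMem (by simp [h3.symm]), Finset.card_singleton]

variable {G : Type*} [Group G] [Finite G]

theorem not_cyclic_of_two {A : Subgroup G} {z t : G} (hz : z ∈ A) (ht : t ∈ A) (hz2 : z * z = 1)
    (ht2 : t * t = 1) (hz1 : z ≠ 1) (ht1 : t ≠ 1) (hne : z ≠ t) : ¬ IsCyclic A := by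
  intro hc
  classical
  have : Fintype A := Fintype.ofFinite A
  have h := IsCyclic.card_pow_eq_one_le (α := A) two_pos
  have hsub : ({1, ⟨z, hz⟩, ⟨t, ht⟩} : Finset A) ⊆ ({a : A | a ^ 2 = 1} : Finset A) := by
    intro a ha
    simp only [Finset.mem_insert, Finset.mem_singleton] at ha
    rcases ha with rfl | rfl | rfl <;>
      simp [pow_two, ← Subtype.val_inj, hz2, ht2]
  have h3 : ({1, ⟨z, hz⟩, ⟨t, ht⟩} : Finset A).card = 3 := by
    rw [Finset.card_insert_of_notMem (by simp [← Subtype.val_inj, hz1.symm, ht1.symm]),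
      Finset.card_insert_of_notMem (by simp [← Subtype.val_inj, hne]), Finset.card_singleton]
  have := Finset.card_le_card hsub
  omega

/-- A central four group of a 2-subgroup without non-cyclic abelian subgroups of order eight is
everything. -/
theorem four_central {Y : Subgroup G} (hY : IsPGroup 2 Y) (hNN : NN Y) {z t : G} (hz : z ∈ Y)
    (ht : t ∈ Y) (hz2 : z * z = 1) (ht2 : t * t = 1) (hzt : z * t = t * z) (hz1 : z ≠ 1)
    (ht1 : t ≠ 1) (hne : z ≠ t) {x : G} (hx : x ∈ Y) (hxz : x * z = z * x) (hxt : x * t = t * x) :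
    x ∈ fourGroup z t hz2 ht2 hzt := by
  set W := fourGroup z t hz2 ht2 hzt with hW
  have hzW : z ∈ W := (mem_fourGroup _ _ _).2 (by simp)
  have htW : t ∈ W := (mem_fourGroup _ _ _).2 (by simp)
  have hWY : W ≤ Y := fun w hw => by
    rcases (mem_fourGroup _ _ _).1 hw with rfl | rfl | rfl | rfl
    exacts [one_mem _, hz, ht, mul_mem hz ht]
  by_contra hxW
  obtain ⟨k, hk⟩ := IsPGroup.iff_orderOf.1 hY ⟨x, hx⟩
  have hxk : x ^ 2 ^ k ∈ W := by
    have := congrArg Subtype.val (pow_orderOf_eq_one (⟨x, hx⟩ : Y))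
    rw [hk, Subgroup.coe_pow, Subgroup.coe_one] at this
    rw [this]
    exact one_mem _
  classical
  have hex : ∃ j, x ^ 2 ^ j ∈ W := ⟨k, hxk⟩
  have hj0 : Nat.find hex ≠ 0 := fun e => hxW (by simpa [e] using Nat.find_spec hex)
  set y := x ^ 2 ^ (Nat.find hex - 1) with hy
  have hyY : y ∈ Y := pow_mem hx _
  have hy2 : y * y ∈ W := by
    rw [hy, ← pow_add, ← two_mul, ← pow_succ', Nat.sub_add_cancel (Nat.pos_of_ne_zero hj0)]
    exact Nat.find_spec hex
  have hyW : y ∉ W := Nat.find_min hex (by omega)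
  have hycW : ∀ w ∈ W, y * w = w * y := fun w hw => by
    have h1 : Commute y z := (show Commute x z from hxz).pow_left _
    have h2 : Commute y t := (show Commute x t from hxt).pow_left _
    rcases (mem_fourGroup _ _ _).1 hw with rfl | rfl | rfl | rfl
    exacts [Commute.one_right y, h1, h2, h1.mul_right h2]
  have hWc : ∀ u ∈ W, ∀ v ∈ W, u * v = v * u := fun u hu v hv => by
    have key : ∀ w ∈ W, Commute z w ∧ Commute t w := fun w hw => by
      rcases (mem_fourGroup _ _ _).1 hw with rfl | rfl | rfl | rfl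
      exacts [⟨Commute.one_right _, Commute.one_right _⟩, ⟨Commute.refl _, hzt.symm⟩,
        ⟨hzt, Commute.refl _⟩,
        ⟨(Commute.refl z).mul_right hzt, (Commute.mul_right hzt.symm (Commute.refl t))⟩]
    rcases (mem_fourGroup _ _ _).1 hu with rfl | rfl | rfl | rfl
    exacts [Commute.one_left v, (key v hv).1, (key v hv).2, (key v hv).1.mul_left (key v hv).2]
  let B : Subgroup G :=
    { carrier := {g | g ∈ W ∨ y⁻¹ * g ∈ W}
      one_mem' := Or.inl (one_mem W)
      mul_mem' := by
        intro a b ha hb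
        rcases ha with ha | ha <;> rcases hb with hb | hb
        · exact Or.inl (mul_mem ha hb)
        · refine Or.inr ?_
          have hy' : y⁻¹ * a = a * y⁻¹ := ((show Commute y a from hycW a ha).inv_left).eq
          rw [← mul_assoc, hy', mul_assoc]
          exact mul_mem ha hb
        · exact Or.inr (by rw [← mul_assoc]; exact mul_mem ha hb)
        · refine Or.inl ?_
          obtain ⟨u, hu, rfl⟩ : ∃ u ∈ W, a = y * u := ⟨_, ha, by rw [mul_inv_cancel_left]⟩
          obtain ⟨v, hv, rfl⟩ : ∃ v ∈ W, b = y * v := ⟨_, hb, by rw [mul_inv_cancel_left]⟩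
          have : y * u * (y * v) = y * y * (u * v) := by
            rw [mul_assoc y u, ← mul_assoc u y v, ← hycW u hu]; group
          rw [this]
          exact mul_mem hy2 (mul_mem hu hv)
      inv_mem' := by
        intro a ha
        rcases ha with ha | ha
        · exact Or.inl (inv_mem ha)
        · refine Or.inr ?_
          obtain ⟨u, hu, rfl⟩ : ∃ u ∈ W, a = y * u := ⟨_, ha, by rw [mul_inv_cancel_left]⟩
          have : y⁻¹ * (y * u)⁻¹ = (y * y)⁻¹ * u⁻¹ := by
            rw [hycW u hu]; group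
          rw [this]
          exact mul_mem (inv_mem hy2) (inv_mem hu) }
  have hBY : B ≤ Y := by
    rintro g (hg | hg)
    · exact hWY hg
    · simpa using mul_mem hyY (hWY hg)
  have hBc : IsMulCommutative B := by
    refine ⟨⟨fun a b => Subtype.ext ?_⟩⟩
    show (a : G) * b = b * a
    have hmul : ∀ g ∈ B, Commute y g ∧ ∀ w ∈ W, Commute g w := by
      rintro g (hg | hg)
      · exact ⟨hycW g hg, fun w hw => hWc g hg w hw⟩
      · obtain ⟨u, hu, rfl⟩ : ∃ u ∈ W, g = y * u := ⟨_, hg, by rw [mul_inv_cancel_left]⟩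
        exact ⟨(Commute.refl y).mul_right (hycW u hu),
          fun w hw => Commute.mul_left (hycW w hw) (hWc u hu w hw)⟩
    rcases a.2 with ha | ha
    · exact ((hmul b b.2).2 _ ha).eq.symm
    · obtain ⟨u, hu, hu'⟩ : ∃ u ∈ W, (a : G) = y * u := ⟨_, ha, by rw [mul_inv_cancel_left]⟩
      rw [hu']
      exact Commute.mul_left (hmul b b.2).1 ((hmul b b.2).2 u hu).symm
  have hB8 : Nat.card B = 8 := by
    let f : Bool × W → B := fun ab =>
      if ab.1 then ⟨y * ab.2, Or.inr (by simpa using ab.2.2)⟩ else ⟨ab.2, Or.inl ab.2.2⟩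
    have hf : Function.Bijective f := by
      constructor
      · rintro ⟨a, u⟩ ⟨b, v⟩ h
        have hyu : ∀ u v : W, y * (u : G) ≠ v := fun u v e => hyW (by
          rw [show y = (v : G) * (u : G)⁻¹ by rw [← e, mul_inv_cancel_right]]
          exact mul_mem v.2 (inv_mem u.2))
        have h' := congrArg Subtype.val h
        cases a <;> cases b
        · exact Prod.ext rfl (Subtype.ext (show (u : G) = v from h'))
        · exact absurd (show y * (v : G) = u from h'.symm) (hyu v u)
        · exact absurd (show y * (u : G) = v from h') (hyu u v)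
        · exact Prod.ext rfl (Subtype.ext (mul_left_cancel (show y * (u : G) = y * v from h')))
      · rintro ⟨g, hg | hg⟩
        · exact ⟨(false, ⟨g, hg⟩), rfl⟩
        · exact ⟨(true, ⟨_, hg⟩), Subtype.ext (mul_inv_cancel_left y g)⟩
    rw [← Nat.card_eq_of_bijective f hf, Nat.card_prod, hW,
      card_fourGroup hz2 ht2 hzt hz1 ht1 hne, Nat.card_eq_fintype_card, Fintype.card_bool]
  exact not_cyclic_of_two (A := B) (Or.inl hzW) (Or.inl htW) hz2 ht2 hz1 ht1 hne
    (hNN B hBY hBc hB8)

theorem quaternion_not_comm {n : ℕ} (hn : 1 ≤ n) :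
    ¬ ∀ a b : QuaternionGroup (2 ^ n), a * b = b * a := by
  intro h
  have h1 := h (QuaternionGroup.a 1) (QuaternionGroup.xa 0)
  rw [QuaternionGroup.a_mul_xa, QuaternionGroup.xa_mul_a] at h1
  simp only [QuaternionGroup.xa.injEq, zero_sub, zero_add] at h1
  have h2 : ((2 : ℕ) : ZMod (2 * 2 ^ n)) = 0 := by
    rw [show ((2 : ℕ) : ZMod (2 * 2 ^ n)) = 1 + 1 by norm_num]
    nth_rw 1 [← h1]
    exact neg_add_cancel 1
  rw [ZMod.natCast_eq_zero_iff] at h2
  have := Nat.le_of_dvd two_pos h2
  have : 2 ^ 1 ≤ 2 ^ n := Nat.pow_le_pow_right two_pos hn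
  omega

/-- A non-cyclic abelian such group is a four group. -/
theorem comm_cases {Y : Subgroup G} (hY : IsPGroup 2 Y) (hNN : NN Y)
    (hc : ∀ a ∈ Y, ∀ b ∈ Y, a * b = b * a) :
    IsCyclic Y ∨ (Nat.card Y = 4 ∧ ∀ a ∈ Y, a * a = 1) := by
  haveI : Fact (Nat.Prime 2) := ⟨Nat.prime_two⟩
  by_cases huniq : ∀ x y : Y, orderOf x = 2 → orderOf y = 2 → y ∈ zpowers x
  · rcases Cfsg.Lib.UniqueSub.isCyclic_or_quaternion hY huniq with h | ⟨-, n, ⟨e⟩⟩
    · exact Or.inl h
    · rcases Nat.eq_zero_or_pos n with rfl | hn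
      · haveI : IsCyclic (QuaternionGroup (2 ^ 0)) := QuaternionGroup.quaternionGroup_one_isCyclic
        exact Or.inl (e.symm.isCyclic.mp inferInstance)
      · exact absurd (fun a b => e.symm.injective (by
          rw [map_mul, map_mul]
          exact Subtype.ext (hc _ (e.symm a).2 _ (e.symm b).2))) (quaternion_not_comm hn)
  · push Not at huniq
    obtain ⟨⟨z, hz⟩, ⟨t, ht⟩, hoz, hot, hne⟩ := huniq
    rw [Subgroup.orderOf_mk, orderOf_eq_prime_iff, pow_two] at hoz hot
    have hne' : z ≠ t := fun e => hne (by subst e; exact mem_zpowers _)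
    refine Or.inr ?_
    have hall : Y = fourGroup z t hoz.1 hot.1 (hc z hz t ht) := by
      refine le_antisymm (fun x hx => four_central hY hNN hz ht hoz.1 hot.1 _ hoz.2 hot.2 hne' hx
        (hc x hx z hz) (hc x hx t ht)) fun w hw => ?_
      rcases (mem_fourGroup _ _ _).1 hw with rfl | rfl | rfl | rfl
      exacts [one_mem _, hz, ht, mul_mem hz ht]
    refine ⟨?_, fun a ha => ?_⟩
    · rw [hall]
      exact card_fourGroup _ _ _ hoz.2 hot.2 hne'
    · rw [hall] at ha
      have hzt := hc z hz t ht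
      rcases (mem_fourGroup _ _ _).1 ha with rfl | rfl | rfl | rfl
      · simp
      · exact hoz.1
      · exact hot.1
      · rw [mul_assoc, ← mul_assoc t, ← hzt, mul_assoc z t, hot.1, mul_one, hoz.1]

/-- A 2-group without non-cyclic abelian subgroups of order eight which has an automorphism of odd
order is a four group or quaternion of order eight. -/
theorem small {Q : Type*} [Group Q] [Finite Q] (hQ : IsPGroup 2 Q) (hNN : NN (⊤ : Subgroup Q))
    (φ : MulAut Q) (hφ : Odd (orderOf φ)) (hne : φ ≠ 1) : Small Q := by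
  haveI hF : Fact (Nat.Prime 2) := ⟨Nat.prime_two⟩
  by_cases huniq : ∀ x y : Q, orderOf x = 2 → orderOf y = 2 → y ∈ zpowers x
  · refine Or.inr (Cfsg.Lib.RankOne.odd_auto_quaternion hQ ?_ φ hφ hne).1
    rcases Cfsg.Lib.UniqueSub.isCyclic_or_quaternion hQ huniq with h | ⟨-, h⟩
    · exact Or.inl h
    · exact Or.inr h
  push Not at huniq
  obtain ⟨x, y, hox, hoy, hxy⟩ := huniq
  rw [orderOf_eq_prime_iff, pow_two] at hox hoy
  obtain ⟨z, -, hzZ, hoz⟩ := Cfsg.Lib.PGroups.exists_mem_center_of_normal_ne_bot (p := 2) hQ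
    (N := (⊤ : Subgroup Q)) (by
      intro h
      have : x ∈ (⊤ : Subgroup Q) := mem_top _
      rw [h, mem_bot] at this
      exact hox.2 this)
  rw [orderOf_eq_prime_iff, pow_two] at hoz
  obtain ⟨t, hot, hne'⟩ : ∃ t, (t * t = 1 ∧ t ≠ 1) ∧ z ≠ t := by
    by_cases h : z = x
    · exact ⟨y, hoy, fun e => hxy (by rw [← e, h]; exact mem_zpowers x)⟩
    · exact ⟨x, hox, h⟩
  have hzc : ∀ g : Q, g * z = z * g := mem_center_iff.1 hzZ
  set W := fourGroup z t hoz.1 hot.1 (hzc t).symm with hW
  have hWt : ∀ w ∈ W, Commute w t ∧ Commute w z := fun w hw =>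
    ⟨by
      rcases (mem_fourGroup _ _ _).1 hw with rfl | rfl | rfl | rfl
      exacts [Commute.one_left _, (hzc t).symm, Commute.refl _,
        Commute.mul_left (hzc t).symm (Commute.refl t)],
     hzc w⟩
  have hC : centralizer (W : Set Q) = W := by
    refine le_antisymm (fun g hg => four_central (hQ.to_subgroup ⊤) hNN (mem_top _) (mem_top _) hoz.1
      hot.1 _ hoz.2 hot.2 hne' (mem_top g) (hzc g) ?_) fun w hw => ?_
    · exact ((mem_centralizer_iff.1 hg) t ((mem_fourGroup _ _ _).2 (by simp))).symm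
    · rw [mem_centralizer_iff]
      intro v hv
      rcases (mem_fourGroup _ _ _).1 hv with rfl | rfl | rfl | rfl
      · simp
      · exact (hzc w).symm
      · exact (hWt w hw).1.eq.symm
      · exact (Commute.mul_right (hWt w hw).2 (hWt w hw).1).eq.symm
  have hW4 : Nat.card W = 2 ^ 2 := card_fourGroup _ _ _ hoz.2 hot.2 hne'
  by_cases hcomm : ∀ a b : Q, a * b = b * a
  · refine Or.inl ⟨?_, hcomm, fun a => ?_⟩
    all_goals
      have htop : W = ⊤ := eq_top_iff.2 fun g _ => hC ▸ mem_centralizer_iff.2 fun v _ => hcomm v g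
    · rw [← Subgroup.card_top (G := Q), ← htop, hW4]; rfl
    · have ha : a ∈ W := htop ▸ mem_top a
      rcases (mem_fourGroup _ _ _).1 ha with rfl | rfl | rfl | rfl
      · simp
      · exact hoz.1
      · exact hot.1
      · rw [mul_assoc, ← mul_assoc t, hzc t, mul_assoc z t, hot.1, mul_one, hoz.1]
  · haveI := hQ.isNilpotent
    obtain ⟨n, hn⟩ := IsPGroup.iff_card.1 hQ
    have hn2 : 2 ≤ n := by
      by_contra hlt
      have h1 := W.card_subgroup_dvd_card
      rw [hW4, hn] at h1
      have := Nat.pow_dvd_pow_iff_le_right (x := 2) (by norm_num) |>.1 h1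
      omega
    have hc := Cfsg.Lib.MaxClass.of_self_centralizing n Q hn W hW4 hC
    have h4 : (commutator Q).index = 4 := Cfsg.Lib.MaxClass.commutator_index n Q hn hn2 hc
    refine Or.inr (Cfsg.Lib.IndexFour.quaternion_of_aut hQ (fun h => hcomm h.is_comm.comm) h4 ?_)
    intro hA
    obtain ⟨k, hk⟩ := IsPGroup.iff_orderOf.1 hA φ
    rcases k with _ | k
    · exact hne (orderOf_eq_one_iff.1 (by simpa using hk))
    · rw [hk, Nat.odd_iff, pow_succ, Nat.mul_mod_left] at hφ
      exact absurd hφ (by norm_num)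

end Cfsg.Lib.EightMin
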