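/-
A normal four or quaternion subgroup containing its centralizer leaves no room for a non-cyclic
abelian subgroup of order eight.
-/
import Cfsg.Agent.SolvStruct.EightMinimal.Basic

set_option autoImplicit false

namespace Cfsg.Lib.EightMin

open Subgroup

variable {S : Type*} [Group S] [Finite S]

/-- If products of two elements of `A` outside `Q` lie in `Q`, then `A ⊓ Q` has index at most two. -/
theorem card_le_of_movers (A Q : Subgroup S)
    (h : ∀ a ∈ A, ∀ b ∈ A, a ∉ Q → b ∉ Q → a * b ∈ Q) :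
    Nat.card A ≤ 2 * Nat.card (A ⊓ Q : Subgroup S) := by
  classical
  by_cases hall : A ≤ Q
  · rw [inf_eq_left.2 hall]; omega
  obtain ⟨t, htA, htQ⟩ := SetLike.not_le_iff_exists.1 hall
  let f : A → Bool × (A ⊓ Q : Subgroup S) := fun a =>
    if ha : (a : S) ∈ Q then (false, ⟨a, mem_inf.2 ⟨a.2, ha⟩⟩)
    else (true, ⟨a * t, mem_inf.2 ⟨A.mul_mem a.2 htA, h a a.2 t htA ha htQ⟩⟩)
  have hf : Function.Injective f := by
    intro a b hab
    simp only [f] at hab
    split_ifs at hab <;> simp at hab <;> first | exact hab | exact Subtype.ext hab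
  calc Nat.card A ≤ Nat.card (Bool × (A ⊓ Q : Subgroup S)) := Nat.card_le_card_of_injective f hf
    _ = _ := by rw [Nat.card_prod, Nat.card_eq_fintype_card, Fintype.card_bool]

/-- Two elements moving a normalised four group fix it together. -/
theorem four_product {L : Subgroup S} [L.Normal] (h4 : Nat.card L = 4) (hsq : ∀ l ∈ L, l * l = 1)
    {z : S} (hz : z ∈ L) (hz1 : z ≠ 1) {x y : S} (hxz : x * z = z * x) (hyz : y * z = z * y)
    (hx : x ∉ centralizer (L : Set S)) (hy : y ∉ centralizer (L : Set S)) :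
    x * y ∈ centralizer (L : Set S) := by
  classical
  obtain ⟨r, hr, hr1, hrz⟩ : ∃ r ∈ L, r ≠ 1 ∧ r ≠ z := by
    by_contra! hcon
    have : (L : Set S) ⊆ {1, z} := fun l hl => by
      by_cases h : l = 1
      · exact Or.inl h
      · exact Or.inr (hcon l hl h)
    have h2 := Set.ncard_le_ncard this
    rw [← Nat.card_coe_set_eq, Set.ncard_pair (Ne.symm hz1)] at h2
    simp only [SetLike.coe_sort_coe] at h2
    omega
  have hlist : ∀ l ∈ L, l = 1 ∨ l = z ∨ l = r ∨ l = z * r := by
    intro l hl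
    by_contra! hcon
    obtain ⟨h1, h2, h3, h4'⟩ := hcon
    have hsub : (({1, z, r, z * r, l} : Finset S) : Set S) ⊆ (L : Set S) := by
      intro v hv
      simp only [Finset.coe_insert, Finset.coe_singleton, Set.mem_insert_iff, Set.mem_singleton_iff] at hv
      rcases hv with rfl | rfl | rfl | rfl | rfl
      exacts [one_mem _, hz, hr, mul_mem hz hr, hl]
    have h5 : ({1, z, r, z * r, l} : Finset S).card = 5 := by
      have e1 : z * r ≠ 1 := fun e => hrz (by
        rw [← mul_right_inj z, hsq z hz, e])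
      have e2 : z * r ≠ z := fun e => hr1 (by simpa using e)
      have e3 : z * r ≠ r := fun e => hz1 (by simpa using e)
      rw [Finset.card_insert_of_notMem (by simp [hz1.symm, hr1.symm, e1.symm, h1.symm]),
        Finset.card_insert_of_notMem (by simp [hrz.symm, e2.symm, h2.symm]),
        Finset.card_insert_of_notMem (by simp [e3.symm, h3.symm]),
        Finset.card_insert_of_notMem (by simp [h4'.symm]), Finset.card_singleton]
    have := Set.ncard_le_ncard hsub
    rw [Set.ncard_coe_finset, h5, ← Nat.card_coe_set_eq] at this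
    simp only [SetLike.coe_sort_coe] at this
    omega
  have hmove : ∀ g : S, g * z = z * g → g ∉ centralizer (L : Set S) → g * r * g⁻¹ = z * r := by
    intro g hgz hg
    rcases hlist _ (Normal.conj_mem inferInstance r hr g) with h | h | h | h
    · exact absurd (conj_eq_one_iff.1 h) hr1
    · refine absurd ?_ hrz
      have : g * z * g⁻¹ = z := by rw [hgz, mul_inv_cancel_right]
      exact mul_left_cancel (mul_right_cancel (h.trans this.symm))
    · refine absurd (mem_centralizer_iff.2 fun l hl => ?_) hg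
      have hgr : Commute g r := mul_inv_eq_iff_eq_mul.1 h
      rcases hlist l hl with rfl | rfl | rfl | rfl
      exacts [(Commute.one_left g).eq, hgz.symm, hgr.symm.eq,
        ((show Commute g z from hgz).mul_right hgr).symm.eq]
    · exact h
  have hxyr : Commute (x * y) r := mul_inv_eq_iff_eq_mul.1 (by
    calc x * y * r * (x * y)⁻¹ = x * (y * r * y⁻¹) * x⁻¹ := by group
      _ = (x * z * x⁻¹) * (x * r * x⁻¹) := by rw [hmove y hyz hy]; group
      _ = z * (z * r) := by rw [hmove x hxz hx, hxz, mul_inv_cancel_right]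
      _ = r := by rw [← mul_assoc, hsq z hz, one_mul])
  have hxyz : Commute (x * y) z := Commute.mul_left hxz hyz
  rw [mem_centralizer_iff]
  intro l hl
  rcases hlist l hl with rfl | rfl | rfl | rfl
  exacts [(Commute.one_left _).eq, hxyz.symm.eq, hxyr.symm.eq, (hxyz.mul_right hxyr).symm.eq]

/-- The three cyclic subgroups of order four of `Q₈`. -/
def cls (q : QuaternionGroup 2) : Fin 3 :=
  if q = .a 1 ∨ q = .a 3 then 0 else if q = .xa 0 ∨ q = .xa 2 then 1 else 2

/-- Generators of the three cyclic subgroups of order four. -/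
def rep : Fin 3 → QuaternionGroup 2 := ![.a 1, .xa 0, .xa 1]

theorem q8_rep : ∀ k, rep k * rep k ≠ 1 ∧ cls (rep k) = k := by decide

theorem q8_inner : ∀ u v : QuaternionGroup 2, u * u ≠ 1 → v * v ≠ 1 → cls u = 0 → cls v = 1 →
    ∃ q, q * rep 0 * q⁻¹ = u ∧ q * rep 1 * q⁻¹ = v := by decide

theorem q8_gen : ∀ v : QuaternionGroup 2,
    v = 1 ∨ v = rep 0 ∨ v = rep 0 * rep 0 ∨ v = rep 0 * (rep 0 * rep 0) ∨
      v = rep 1 ∨ v = rep 0 * rep 1 ∨ v = rep 0 * rep 0 * rep 1 ∨
        v = rep 0 * (rep 0 * rep 0) * rep 1 := by decide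

theorem q8_same : ∀ u v : QuaternionGroup 2, u * u ≠ 1 → v * v ≠ 1 → cls u = cls v →
    v = u ∨ v = u⁻¹ := by decide

theorem q8_cls_inv : ∀ u : QuaternionGroup 2, u * u ≠ 1 → cls u⁻¹ = cls u := by decide

theorem q8_noncomm : ∀ u v : QuaternionGroup 2, u * u ≠ 1 → v * v ≠ 1 →
    (u * v = v * u ↔ cls u = cls v) := by decide

set_option maxRecDepth 4000 in
set_option synthInstance.maxSize 2048 in
theorem q8_moved : ∀ i j : QuaternionGroup 2, i * j ≠ j * i → ∀ v, i * v ≠ v * i → v ≠ j → v ≠ j⁻¹ →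
    v = i * j ∨ v = i⁻¹ * j := by decide +kernel

theorem q8_twice : ∀ i j : QuaternionGroup 2, i * j ≠ j * i →
    i * (i * j) ≠ j ∧ i⁻¹ * (i⁻¹ * j) ≠ j := by decide

theorem q8_central : ∀ u : QuaternionGroup 2, u * u = 1 → ∀ v, u * v = v * u := by decide

theorem q8_center : ∀ u : QuaternionGroup 2, (∀ v, u * v = v * u) → u * u = 1 := by decide

theorem q8_two : ∀ u : QuaternionGroup 2, u * u = 1 → u = 1 ∨ u = .a 2 := by decide

set_option maxRecDepth 4000 in
theorem perm_three : ∀ s t : Equiv.Perm (Fin 3), s ^ 8 = 1 → t ^ 8 = 1 → s * t = t * s →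
    s ≠ 1 → t ≠ 1 → s * t = 1 := by decide

/-- No non-cyclic abelian group of order eight can normalise a self-centralising quaternion group. -/
theorem no_eight_quaternion (f : QuaternionGroup 2 →* S) (hf : Function.Injective f)
    (hn : ∀ g : S, ∀ v, ∃ w, g * f v * g⁻¹ = f w)
    (hC : centralizer (f.range : Set S) ≤ f.range)
    (A : Subgroup S) (hc : IsMulCommutative A) (h8 : Nat.card A = 8) : IsCyclic A := by
  classical
  by_contra hnc
  have hac : ∀ a ∈ A, ∀ b ∈ A, a * b = b * a := fun a ha b hb =>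
    congrArg Subtype.val (hc.is_comm.comm ⟨a, ha⟩ ⟨b, hb⟩)
  choose w hw using hn
  have hsq : ∀ g v, w g v * w g v = 1 ↔ v * v = 1 := by
    intro g v
    rw [← hf.eq_iff, map_mul, map_one, ← hw, ← hf.eq_iff (a := v * v), map_mul, map_one]
    rw [show g * f v * g⁻¹ * (g * f v * g⁻¹) = g * (f v * f v) * g⁻¹ by group, conj_eq_one_iff]
  have hwinv : ∀ g v, w g v⁻¹ = (w g v)⁻¹ := by
    intro g v
    refine hf ?_
    rw [← hw, map_inv, map_inv, ← hw]
    group
  have hwmul : ∀ g h v, w (g * h) v = w g (w h v) := by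
    intro g h v
    refine hf ?_
    rw [← hw, ← hw, ← hw]
    group
  have hw1 : ∀ v, w 1 v = v := fun v => hf (by rw [← hw]; group)
  have hrep : ∀ g k, w g (rep k) * w g (rep k) ≠ 1 := fun g k h => (q8_rep k).1 ((hsq g _).1 h)
  let σ₀ : S → Fin 3 → Fin 3 := fun g k => cls (w g (rep k))
  have hσmul : ∀ g h k, σ₀ (g * h) k = σ₀ g (σ₀ h k) := by
    intro g h k
    show cls (w (g * h) (rep k)) = cls (w g (rep (cls (w h (rep k)))))
    rw [hwmul]
    rcases q8_same _ _ (q8_rep (cls (w h (rep k)))).1 (hrep h k) (q8_rep _).2 with e | e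
    · exact congrArg (fun x => cls (w g x)) e
    · refine (congrArg (fun x => cls (w g x)) e).trans ?_
      show cls (w g (rep _)⁻¹) = _
      rw [hwinv, q8_cls_inv _ (hrep g _)]
  have hσ1 : ∀ k, σ₀ 1 k = k := fun k => by
    show cls (w 1 (rep k)) = k
    rw [hw1]; exact (q8_rep k).2
  let σ : S →* Equiv.Perm (Fin 3) := MonoidHom.mk'
    (fun g => ⟨σ₀ g, σ₀ g⁻¹, fun k => by rw [← hσmul, inv_mul_cancel, hσ1],
      fun k => by rw [← hσmul, mul_inv_cancel, hσ1]⟩)
    (fun g h => Equiv.ext fun k => hσmul g h k)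
  -- elements inducing the identity are in `Q`
  have hker : ∀ g, σ g = 1 → g ∈ f.range := by
    intro g hg
    have hk : ∀ k, cls (w g (rep k)) = k := fun k => by
      have := congrArg (fun e : Equiv.Perm (Fin 3) => e k) hg
      exact this
    obtain ⟨q, hq0, hq1⟩ := q8_inner _ _ (hrep g 0) (hrep g 1) (hk 0) (hk 1)
    have hcomm : ∀ u, q * u * q⁻¹ = w g u → Commute ((f q)⁻¹ * g) (f u) := by
      intro u hu
      have h := congrArg f hu
      rw [map_mul, map_mul, map_inv, ← hw] at h
      show (f q)⁻¹ * g * f u = f u * ((f q)⁻¹ * g)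
      calc (f q)⁻¹ * g * f u = (f q)⁻¹ * (g * f u * g⁻¹) * g := by group
        _ = f u * ((f q)⁻¹ * g) := by rw [← h]; group
    have c0 := hcomm _ hq0
    have c1 := hcomm _ hq1
    have hmem : (f q)⁻¹ * g ∈ centralizer (f.range : Set S) := by
      rw [mem_centralizer_iff]
      rintro _ ⟨v, rfl⟩
      rcases q8_gen v with rfl | rfl | rfl | rfl | rfl | rfl | rfl | rfl <;>
        (try simp only [map_mul, map_one])
      exacts [(Commute.one_left _).eq, c0.eq.symm, (c0.mul_right c0).eq.symm,
        (c0.mul_right (c0.mul_right c0)).eq.symm, c1.eq.symm, (c0.mul_right c1).eq.symm,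
        ((c0.mul_right c0).mul_right c1).eq.symm,
        ((c0.mul_right (c0.mul_right c0)).mul_right c1).eq.symm]
    have := mul_mem (show f q ∈ f.range from ⟨q, rfl⟩) (hC hmem)
    rwa [mul_inv_cancel_left] at this
  have hσ8 : ∀ a ∈ A, σ a ^ 8 = 1 := by
    intro a ha
    have := congrArg Subtype.val (pow_card_eq_one' (x := (⟨a, ha⟩ : A)))
    rw [h8] at this
    rw [← map_pow, show a ^ 8 = 1 from this, map_one]
  have hprod : ∀ a ∈ A, ∀ b ∈ A, a ∉ f.range → b ∉ f.range → a * b ∈ f.range := by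
    intro a ha b hb ha' hb'
    refine hker _ ?_
    rw [map_mul]
    refine perm_three _ _ (hσ8 a ha) (hσ8 b hb) ?_ (fun e => ha' (hker a e)) fun e => hb' (hker b e)
    rw [← map_mul, ← map_mul, hac a ha b hb]
  have h4 := card_le_of_movers A f.range hprod
  rw [h8] at h4
  -- an element of order four in the intersection
  obtain ⟨i, hiA, hi⟩ : ∃ i, f i ∈ A ∧ i * i ≠ 1 := by
    by_contra! hcon
    have hsub : ((A ⊓ f.range : Subgroup S) : Set S) ⊆ {1, f (.a 2)} := by
      rintro v hv
      obtain ⟨hvA, i, rfl⟩ := mem_inf.1 hv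
      rcases q8_two i (hcon i hvA) with rfl | rfl
      · exact Or.inl (map_one f)
      · exact Or.inr rfl
    have h2 := (Set.ncard_le_ncard hsub).trans (Set.ncard_insert_le _ _)
    rw [← Nat.card_coe_set_eq, Set.ncard_singleton] at h2
    simp only [SetLike.coe_sort_coe] at h2
    omega
  -- an element outside
  obtain ⟨a, haA, haQ⟩ : ∃ a ∈ A, a ∉ f.range := by
    by_contra! hcon
    have hQ8 : Nat.card f.range = 8 := by
      rw [← Nat.card_congr (MonoidHom.ofInjective hf).toEquiv, Nat.card_eq_fintype_card,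
        QuaternionGroup.card]
    have he : A = f.range := eq_of_le_of_card_ge hcon (by omega)
    have h1 := hac (f (rep 0)) (he ▸ ⟨_, rfl⟩) (f (rep 1)) (he ▸ ⟨_, rfl⟩)
    rw [← map_mul, ← map_mul] at h1
    exact absurd (hf h1) (by decide)
  have hai : w a i = i := hf (by rw [← hw, hac a haA _ hiA, mul_inv_cancel_right])
  obtain ⟨k, hk⟩ : ∃ k, σ a k ≠ k := by
    by_contra! hcon
    exact haQ (hker a (Equiv.ext hcon))
  have hci : σ a (cls i) = cls i := by
    show cls (w a (rep (cls i))) = cls i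
    rcases q8_same _ _ hi (q8_rep (cls i)).1 (q8_rep _).2.symm with e | e
    · rw [e, hai]
    · rw [e, hwinv, hai, q8_cls_inv _ hi]
  have hkne : cls i ≠ k := fun e => hk (e ▸ hci)
  set j := rep k with hj
  have hij : i * j ≠ j * i := fun e => hkne ((q8_noncomm i j hi (q8_rep k).1).1 e |>.trans (q8_rep k).2)
  have hvi : i * w a j ≠ w a j * i := by
    intro e
    refine hij (hf ?_)
    have h := congrArg f e
    rw [map_mul, map_mul, ← hw] at h
    have hcm : Commute a (f i) := hac a haA _ hiA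
    have h' : f i * (a * f j * a⁻¹) = a * (f i * f j) * a⁻¹ := by
      rw [← mul_assoc, ← mul_assoc, ← hcm.eq]; group
    have h'' : a * f j * a⁻¹ * f i = a * (f j * f i) * a⁻¹ := by
      rw [mul_assoc _ a⁻¹, hcm.inv_left.eq]; group
    rw [h', h''] at h
    rw [map_mul, map_mul]
    exact mul_left_cancel (mul_right_cancel h)
  have hvne : w a j ≠ j ∧ w a j ≠ j⁻¹ := by
    have hk' : cls (w a j) ≠ k := hk
    exact ⟨fun e => hk' (by rw [e]; exact (q8_rep k).2),
      fun e => hk' (by rw [e, q8_cls_inv _ (q8_rep k).1, (q8_rep k).2])⟩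
  -- `a * a` is an element of order four in the cyclic subgroup of `i`
  have haa : a * a ∈ f.range := hprod a haA a haA haQ haQ
  obtain ⟨u, hu⟩ := haa
  have hmove : w (a * a) j ≠ j := by
    rw [hwmul]
    have key : ∀ s, w a s = s → w a j = s * j → w a (w a j) = s * (s * j) := by
      intro s hs hv
      refine hf ?_
      rw [hv, ← hw, map_mul, show a * (f s * f j) * a⁻¹ = (a * f s * a⁻¹) * (a * f j * a⁻¹) by group,
        hw, hw, hs, hv, ← map_mul]
    rcases q8_moved i j hij _ hvi hvne.1 hvne.2 with e | e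
    · rw [key i hai e]; exact (q8_twice i j hij).1
    · rw [key i⁻¹ (by rw [hwinv, hai]) e]; exact (q8_twice i j hij).2
  have hu1 : u * u ≠ 1 := by
    intro h
    refine hmove (hf ?_)
    rw [← hw, ← hu, ← map_mul, q8_central u h j, map_mul, mul_inv_cancel_right]
  have ho : orderOf (⟨a, haA⟩ : A) = 8 := by
    haveI : Fact (Nat.Prime 2) := ⟨Nat.prime_two⟩
    rw [Subgroup.orderOf_mk]
    refine orderOf_eq_prime_pow (p := 2) (n := 2) ?_ ?_
    · intro h
      refine hu1 (hf ?_)
      rw [map_one, map_mul, hu, ← h]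
      norm_num [pow_succ, mul_assoc]
    · have := congrArg Subtype.val (pow_card_eq_one' (x := (⟨a, haA⟩ : A)))
      rw [h8] at this
      exact this
  exact hnc (isCyclic_of_orderOf_eq_card (⟨a, haA⟩ : A) (by rw [ho, h8]))

end Cfsg.Lib.EightMin
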