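/-
Solvable groups minimal, among subgroups of 2-power index, with a non-cyclic abelian subgroup of
order eight.
-/
import Cfsg.Agent.SolvStruct.EightMinimal.NoQuat
import Cfsg.Agent.SolvStruct.PGroupBasics
import Cfsg.Agent.PGroups.SpecialCoprime
import Cfsg.Agent.Coprime.Fitting

set_option autoImplicit false

namespace Cfsg.Lib.EightMin

open Subgroup
open scoped commutatorElement

variable {S : Type*} [Group S] [Finite S]

theorem NN.top_of {Y : Subgroup S} (h : NN Y) : NN (⊤ : Subgroup Y) := by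
  intro A _ hc h8
  have e := A.equivMapOfInjective Y.subtype Y.subtype_injective
  have hc' : IsMulCommutative (A.map Y.subtype) :=
    ⟨⟨fun a b => e.symm.injective (by rw [map_mul, map_mul, hc.is_comm.comm])⟩⟩
  have := h (A.map Y.subtype) (map_subtype_le A) hc' (by rw [← Nat.card_congr e.toEquiv, h8])
  exact e.isCyclic.2 this

/-- Every element of odd order centralises `Y`. -/
def OddCent (Y : Subgroup S) : Prop := ∀ k : S, Odd (orderOf k) → ∀ y ∈ Y, k * y = y * k

theorem oddCent_or_small (Y : Subgroup S) [Y.Normal] (hY : IsPGroup 2 Y) (hNN : NN Y) :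
    OddCent Y ∨ Small Y := by
  by_cases h : OddCent Y
  · exact Or.inl h
  simp only [OddCent, not_forall] at h
  obtain ⟨k, hk, y, hy, hne⟩ := h
  refine Or.inr (small hY hNN.top_of (MulAut.conjNormal k) ?_ ?_)
  · exact hk.of_dvd_nat (orderOf_map_dvd (MulAut.conjNormal : S →* MulAut Y) k)
  · intro h1
    have := congrArg (fun e : MulAut Y => ((e ⟨y, hy⟩ : Y) : S)) h1
    simp only [MulAut.one_apply, MulAut.conjNormal_apply] at this
    exact hne (mul_inv_eq_iff_eq_mul.1 this)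

omit [Finite S] in
theorem fix_of_stab {k x : S} (hk : Odd (orderOf k)) {n : ℕ} (hn : orderOf (x⁻¹ * (k * x * k⁻¹)) = 2 ^ n)
    (hky : Commute k (x⁻¹ * (k * x * k⁻¹))) : k * x = x * k := by
  set y := x⁻¹ * (k * x * k⁻¹) with hy
  have key : ∀ i : ℕ, k ^ i * x * (k ^ i)⁻¹ = x * y ^ i := by
    intro i
    induction i with
    | zero => simp
    | succ i ih =>
        calc k ^ (i + 1) * x * (k ^ (i + 1))⁻¹ = k * (k ^ i * x * (k ^ i)⁻¹) * k⁻¹ := by
              rw [pow_succ']; group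
          _ = (k * x * k⁻¹) * (k * y ^ i * k⁻¹) := by rw [ih]; group
          _ = x * y * y ^ i := by rw [(hky.pow_right i).eq, mul_inv_cancel_right, hy]; group
          _ = x * y ^ (i + 1) := by rw [pow_succ', mul_assoc]
  have h := key (orderOf k)
  rw [pow_orderOf_eq_one, one_mul, inv_one, mul_one, left_eq_mul] at h
  have h2 : orderOf y = 1 := Nat.eq_one_of_dvd_coprimes
    ((Nat.prime_two.coprime_iff_not_dvd.2 hk.not_two_dvd_nat).symm.pow_right n)
    (orderOf_dvd_of_pow_eq_one h) (by rw [hn])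
  rw [orderOf_eq_one_iff, hy, inv_mul_eq_one] at h2
  exact mul_inv_eq_iff_eq_mul.1 h2.symm

omit [Finite S] in
theorem fix_of_mem {k x : S} (hk : Odd (orderOf k)) {Y : Subgroup S} (hY : IsPGroup 2 Y)
    (hy : x⁻¹ * (k * x * k⁻¹) ∈ Y) (hky : ∀ y ∈ Y, k * y = y * k) : k * x = x * k := by
  haveI : Fact (Nat.Prime 2) := ⟨Nat.prime_two⟩
  obtain ⟨n, hn⟩ := IsPGroup.iff_orderOf.1 hY ⟨_, hy⟩
  exact fix_of_stab hk (n := n) (by rwa [Subgroup.orderOf_mk] at hn) (hky _ hy)

theorem eq_top_of_odd_trivial (h : ∀ k : S, Odd (orderOf k) → k = 1) : IsPGroup 2 S := by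
  refine IsPGroup.of_card (n := (Nat.card S).primeFactorsList.length)
    (Nat.eq_prime_pow_of_unique_prime_dvd Nat.card_pos.ne' ?_)
  intro q hq hqd
  by_contra hq2
  haveI := Fact.mk hq
  obtain ⟨k, hk⟩ := exists_prime_orderOf_dvd_card' q hqd
  have := h k (hk ▸ hq.odd_of_ne_two hq2)
  rw [this, orderOf_one] at hk
  exact hq.one_lt.ne hk

/-- The hypotheses on `S`. -/
structure Hyp (S : Type*) [Group S] : Prop where
  sol : Group.IsSolvable S
  core : Cfsg.pPrimeCore 2 S = ⊥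
  eight : ∃ A : Subgroup S, IsMulCommutative A ∧ ¬ IsCyclic A ∧ Nat.card A = 8
  min : ∀ R : Subgroup S, R ≠ ⊤ → (∃ k : ℕ, R.index = 2 ^ k) → NN R

theorem exists_odd_hall (hsol : Group.IsSolvable S) :
    ∃ K : Subgroup S, Odd (Nat.card K) ∧ ∃ n : ℕ, K.index = 2 ^ n := by
  haveI := hsol
  obtain ⟨K, hK1, hK2⟩ := Cfsg.Lib.Coprime.exists_piHall (G := S) {q | q ≠ 2}
  refine ⟨K, ?_, K.index.primeFactorsList.length,
    Nat.eq_prime_pow_of_unique_prime_dvd Subgroup.index_ne_zero_of_finite fun {q} hq hqd => by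
      by_contra h
      exact hK2 q hq h hqd⟩
  rw [← Nat.not_even_iff_odd, even_iff_two_dvd]
  exact fun h => hK1 2 Nat.prime_two h rfl

omit [Finite S] in
theorem no_eight_small (hhyp : Hyp S) [Finite S] (Q : Subgroup S) [Q.Normal] (hQ : IsPGroup 2 Q)
    (hC : centralizer (Q : Set S) ≤ Q) (hs : Small Q) : False := by
  obtain ⟨A, hc, hnc, h8⟩ := hhyp.eight
  rcases hs with ⟨h4, -, hsq⟩ | ⟨⟨e⟩⟩
  · haveI : Fact (Nat.Prime 2) := ⟨Nat.prime_two⟩
    have hA : IsPGroup 2 A := IsPGroup.of_card (n := 3) (by rw [h8]; norm_num)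
    obtain ⟨P, hP⟩ := hA.exists_le_sylow
    have hQP : Q ≤ (P : Subgroup S) := le_trans
      (show Q ≤ Cfsg.pCore 2 S from le_sSup ⟨inferInstance, hQ⟩)
      (Cfsg.Lib.Coprime.pCore_le_sylow 2 P)
    obtain ⟨z, hzQ, hzc, hzo⟩ := Cfsg.Lib.PGroups.exists_mem_center_of_normal_ne_bot (p := 2)
      P.isPGroup' (N := Q.subgroupOf (P : Subgroup S)) (fun h => by
        have h1 := congrArg Nat.card (congrArg (fun H : Subgroup (P : Subgroup S) => (H : Type _)) h)
        rw [Nat.card_congr (Subgroup.subgroupOfEquivOfLe hQP).toEquiv, h4, Subgroup.card_bot] at h1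
        omega)
    have hz1 : (z : S) ≠ 1 := fun h => by
      rw [show z = 1 from Subtype.ext h, orderOf_one] at hzo
      omega
    have hAz : ∀ a ∈ A, a * (z : S) = z * a := fun a ha =>
      congrArg Subtype.val (mem_center_iff.1 hzc ⟨a, hP ha⟩)
    have hQC : Q ≤ centralizer (Q : Set S) := fun q hq => mem_centralizer_iff.2 fun r hr => by
      have h1 := hsq ⟨r, hr⟩
      have h2 := hsq ⟨q, hq⟩
      have h3 := hsq (⟨r, hr⟩ * ⟨q, hq⟩)
      simp only [← Subtype.val_inj, Subgroup.coe_mul, Subgroup.coe_one] at h1 h2 h3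
      calc r * q = r * q * (r * r) := by rw [h1, mul_one]
        _ = r * q * r * (q * q) * r := by rw [h2]; group
        _ = (r * q * (r * q)) * (q * r) := by group
        _ = q * r := by rw [h3, one_mul]
    have hCe : centralizer (Q : Set S) = Q := le_antisymm hC hQC
    have hmov : ∀ a ∈ A, ∀ b ∈ A, a ∉ Q → b ∉ Q → a * b ∈ Q := fun a ha b hb ha' hb' => hCe ▸
      four_product h4 (fun l hl => congrArg Subtype.val (hsq ⟨l, hl⟩)) hzQ hz1 (hAz a ha) (hAz b hb)
        (hCe.symm ▸ ha') (hCe.symm ▸ hb')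
    have hle := card_le_of_movers A Q hmov
    have hAQ : A ⊓ Q = Q := eq_of_le_of_card_ge inf_le_right (by omega)
    have hQA : Q ≤ A := hAQ ▸ inf_le_left
    have : A ≤ Q := fun a ha => hC (mem_centralizer_iff.2 fun q hq =>
      congrArg Subtype.val (hc.is_comm.comm ⟨q, hQA hq⟩ ⟨a, ha⟩))
    have := Subgroup.card_le_of_le this
    omega
  · set f : QuaternionGroup 2 →* S := Q.subtype.comp e.symm.toMonoidHom with hf
    have hr : f.range = Q := by
      rw [hf, MonoidHom.range_eq_map, ← Subgroup.map_map,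
        Subgroup.map_top_of_surjective _ e.symm.surjective, ← MonoidHom.range_eq_map, Q.range_subtype]
    refine hnc (no_eight_quaternion f (Q.subtype_injective.comp e.symm.injective) (fun g v => ?_)
      (hr.symm ▸ hC) A hc h8)
    exact ⟨e ⟨g * f v * g⁻¹, Normal.conj_mem inferInstance _ (e.symm v).2 g⟩, by simp [hf]⟩

/-- The setting after the first step. -/
structure Ctx (X K : Subgroup S) : Prop where
  pgroup : IsPGroup 2 X
  self : centralizer (X : Set S) ≤ X
  oddK : Odd (Nat.card K)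
  sup : K ⊔ X = ⊤
  small : ∀ Y : Subgroup S, Y.Normal → Y < X → NN Y
  eight : ∃ A : Subgroup S, A ≤ X ∧ IsMulCommutative A ∧ ¬ IsCyclic A ∧ Nat.card A = 8
  moved : ¬ (∀ a ∈ X, ∀ b ∈ X, a * b = b * a) → ¬ OddCent X

theorem sylow_normal_ctx (h : Hyp S) (X : Sylow 2 S) :
    (X : Subgroup S).Normal ∧ ∃ K, Ctx (X : Subgroup S) K := by
  haveI : Fact (Nat.Prime 2) := ⟨Nat.prime_two⟩
  haveI := h.sol
  set Q := Cfsg.pCore 2 S with hQdef
  have hQp : IsPGroup 2 Q := Cfsg.Lib.Components.isPGroup_pCore 2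
  have hQC : centralizer (Q : Set S) ≤ Q := Cfsg.Lib.Coprime.centralizer_pCore_le 2 h.core
  obtain ⟨A, hAc, hAnc, hA8⟩ := h.eight
  have hbad : ¬ NN Q := by
    intro hNN
    rcases oddCent_or_small Q hQp hNN with hoc | hs
    · have hS : IsPGroup 2 S := eq_top_of_odd_trivial fun k hk => by
        obtain ⟨n, hn⟩ := IsPGroup.iff_orderOf.1 hQp
          ⟨k, hQC (mem_centralizer_iff.2 fun q hq => (hoc k hk q hq).symm)⟩
        rw [Subgroup.orderOf_mk] at hn
        exact orderOf_eq_one_iff.1 (Nat.eq_one_of_dvd_coprimes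
          ((Nat.prime_two.coprime_iff_not_dvd.2 hk.not_two_dvd_nat).symm.pow_right n) dvd_rfl hn.dvd)
      have : (⊤ : Subgroup S) ≤ Q := le_sSup ⟨inferInstance, hS.to_subgroup ⊤⟩
      exact hAnc (hNN A (le_top.trans this) hAc hA8)
    · exact no_eight_small h Q hQp hQC hs
  obtain ⟨K, hKodd, n, hKi⟩ := exists_odd_hall h.sol
  have hQX : Q ≤ (X : Subgroup S) := Cfsg.Lib.Coprime.pCore_le_sylow 2 X
  have hR : ∀ Y : Subgroup S, Y.Normal → ∀ Z : Subgroup S, IsPGroup 2 Z → Y < Z → NN Y := by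
    intro Y hYn Z hZ hlt
    refine fun B hB => h.min (Y ⊔ K) ?_ ?_ B (hB.trans le_sup_left)
    · intro htop
      haveI := hYn
      have hdvd : Y.index ∣ Nat.card K := by
        have hsurj : Function.Surjective ((QuotientGroup.mk' Y).comp K.subtype) := by
          rw [← MonoidHom.range_eq_top, MonoidHom.range_comp, Subgroup.range_subtype, eq_top_iff,
            ← Subgroup.map_top_of_surjective _ (QuotientGroup.mk'_surjective Y), ← htop,
            Subgroup.map_sup, QuotientGroup.map_mk'_self, bot_sup_eq]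
        rw [Subgroup.index_eq_card]
        exact Subgroup.card_dvd_of_surjective _ hsurj
      have hrel : 2 ∣ Y.relIndex Z := by
        obtain ⟨m, hm⟩ := hZ.index (Y.subgroupOf Z)
        rcases m with _ | m
        · exact absurd (Subgroup.relIndex_eq_one.1 (by rw [Subgroup.relIndex, hm, pow_zero])) hlt.not_ge
        · rw [Subgroup.relIndex, hm]; exact dvd_pow_self 2 m.succ_ne_zero
      exact hKodd.not_two_dvd_nat ((hrel.trans ⟨Z.index, (Subgroup.relIndex_mul_index hlt.le).symm⟩).trans hdvd)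
    · obtain ⟨m, -, hm⟩ := (Nat.dvd_prime_pow Nat.prime_two).1
        (hKi ▸ Subgroup.index_dvd_of_le (le_sup_right : K ≤ Y ⊔ K))
      exact ⟨m, hm⟩
  have hXQ : (X : Subgroup S) = Q := by
    by_contra hne
    exact hbad (hR Q inferInstance _ X.isPGroup' (lt_of_le_of_ne hQX (Ne.symm hne)))
  refine ⟨hXQ ▸ inferInstance, K, X.isPGroup', hXQ ▸ hQC, hKodd, ?_,
    fun Y hYn hlt => hR Y hYn _ X.isPGroup' hlt, ⟨A, ?_, hAc, hAnc, hA8⟩, ?_⟩
  · rw [← Subgroup.index_eq_one]
    obtain ⟨m, -, hm⟩ := (Nat.dvd_prime_pow Nat.prime_two).1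
      (hKi ▸ Subgroup.index_dvd_of_le (le_sup_left : K ≤ K ⊔ (X : Subgroup S)))
    rcases m with _ | m
    · simpa using hm
    · exfalso
      exact X.not_dvd_index ((hm ▸ dvd_pow_self 2 m.succ_ne_zero).trans
        (Subgroup.index_dvd_of_le (le_sup_right : (X : Subgroup S) ≤ K ⊔ (X : Subgroup S))))
  · obtain ⟨P, hP⟩ := (IsPGroup.of_card (p := 2) (n := 3) (G := A) (by rw [hA8]; norm_num)).exists_le_sylow
    obtain ⟨g, hg⟩ := MulAction.exists_smul_eq S X P
    haveI : (X : Subgroup S).Normal := hXQ ▸ inferInstance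
    rw [Sylow.smul_eq_of_normal] at hg
    exact hg ▸ hP
  · intro hna hoc
    have hS : IsPGroup 2 S := eq_top_of_odd_trivial fun k hk => by
      obtain ⟨m, hm⟩ := IsPGroup.iff_orderOf.1 hQp
        ⟨k, hQC (mem_centralizer_iff.2 fun q hq => (hoc k hk q (hXQ ▸ hq)).symm)⟩
      rw [Subgroup.orderOf_mk] at hm
      exact orderOf_eq_one_iff.1 (Nat.eq_one_of_dvd_coprimes
        ((Nat.prime_two.coprime_iff_not_dvd.2 hk.not_two_dvd_nat).symm.pow_right m) dvd_rfl hm.dvd)
    have hAtop : A ≠ ⊤ := fun e => hna fun a _ b _ =>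
      congrArg Subtype.val (hAc.is_comm.comm ⟨a, e ▸ mem_top a⟩ ⟨b, e ▸ mem_top b⟩)
    obtain ⟨m, hm⟩ := hS.index A
    exact hAnc (h.min A hAtop ⟨m, hm⟩ A le_rfl hAc hA8)

variable {X K : Subgroup S}

/-- Members of `X` commuting with all of `X`. -/
def Zs (X : Subgroup S) : Subgroup S := X ⊓ centralizer (X : Set S)

omit [Finite S] in
theorem mem_Zs {z : S} : z ∈ Zs X ↔ z ∈ X ∧ ∀ x ∈ X, x * z = z * x := by
  rw [Zs, mem_inf, mem_centralizer_iff]
  exact Iff.rfl

omit [Finite S] in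
theorem Zs_map : (center X).map X.subtype = Zs X := by
  ext z
  rw [mem_Zs, mem_map]
  constructor
  · rintro ⟨w, hw, rfl⟩
    exact ⟨w.2, fun x hx => congrArg Subtype.val (mem_center_iff.1 hw ⟨x, hx⟩)⟩
  · rintro ⟨hz, hc⟩
    exact ⟨⟨z, hz⟩, mem_center_iff.2 fun x => Subtype.ext (hc x x.2), rfl⟩

theorem not_eight_comm (c : Ctx X K) (hna : ¬ ∀ a ∈ X, ∀ b ∈ X, a * b = b * a) : ¬ Nat.card X ≤ 8 := by
  intro h8
  obtain ⟨A, hAX, hAc, -, hA8⟩ := c.eight
  have : A = X := eq_of_le_of_card_ge hAX (by omega)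
  exact hna fun a ha b hb =>
    congrArg Subtype.val (hAc.is_comm.comm ⟨a, this ▸ ha⟩ ⟨b, this ▸ hb⟩)

/-- Abelian normal subgroups of `S` properly inside `X` are central in `X`. -/
theorem le_Zs (c : Ctx X K) [X.Normal] (hna : ¬ ∀ a ∈ X, ∀ b ∈ X, a * b = b * a) (L : Subgroup S)
    [L.Normal] (hLX : L ≤ X) (hLc : ∀ a ∈ L, ∀ b ∈ L, a * b = b * a) : L ≤ Zs X := by
  haveI : Fact (Nat.Prime 2) := ⟨Nat.prime_two⟩
  set C := X ⊓ centralizer (L : Set S) with hC
  haveI : C.Normal := inferInstanceAs (X ⊓ centralizer (L : Set S)).Normal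
  have hLC : L ≤ C := le_inf hLX fun a ha => mem_centralizer_iff.2 fun b hb => hLc b hb a ha
  rcases eq_or_lt_of_le (inf_le_left : C ≤ X) with hCX | hlt
  · exact fun l hl => mem_Zs.2 ⟨hLX hl, fun x hx =>
      ((mem_centralizer_iff.1 (mem_inf.1 (hCX.ge hx)).2) l hl).symm⟩
  rcases oddCent_or_small C (c.pgroup.to_le inf_le_left) (c.small C inferInstance hlt) with hoc | hs
  · exfalso
    refine c.moved hna fun k hk x hx => fix_of_mem (Y := C) hk (c.pgroup.to_le inf_le_left) ?_ (hoc k hk)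
    refine mem_inf.2 ⟨mul_mem (inv_mem hx) (Normal.conj_mem inferInstance x hx k),
      mem_centralizer_iff.2 fun l hl => ?_⟩
    have hkl : k * l = l * k := hoc k hk l (hLC hl)
    have hl' : x * l * x⁻¹ ∈ L := Normal.conj_mem inferInstance l hl x
    have hkl' : k * (x * l * x⁻¹) = (x * l * x⁻¹) * k := hoc k hk _ (hLC hl')
    have h1 : k * x * k⁻¹ * l * (k * x * k⁻¹)⁻¹ = x * l * x⁻¹ := by
      calc k * x * k⁻¹ * l * (k * x * k⁻¹)⁻¹ = k * x * k⁻¹ * (l * k) * x⁻¹ * k⁻¹ := by group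
        _ = k * (x * l * x⁻¹) * k⁻¹ := by rw [← hkl]; group
        _ = x * l * x⁻¹ := by rw [hkl', mul_inv_cancel_right]
    symm
    calc x⁻¹ * (k * x * k⁻¹) * l = x⁻¹ * (k * x * k⁻¹ * l * (k * x * k⁻¹)⁻¹) * (k * x * k⁻¹) := by group
      _ = l * (x⁻¹ * (k * x * k⁻¹)) := by rw [h1]; group
  -- small centraliser
  by_cases h2 : Nat.card L ≤ 2
  · refine fun l hl => mem_Zs.2 ⟨hLX hl, fun x _ => ?_⟩
    by_cases hl1 : l = 1
    · simp [hl1]
    have hconj := Normal.conj_mem inferInstance l hl x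
    by_contra hne
    have hne' : x * l * x⁻¹ ≠ l := fun e => hne (mul_inv_eq_iff_eq_mul.1 e)
    have hc1 : x * l * x⁻¹ ≠ 1 := fun e => hl1 (conj_eq_one_iff.1 e)
    have hsub : ({1, l, x * l * x⁻¹} : Set S) ⊆ (L : Set S) := by
      rintro v (rfl | rfl | rfl)
      exacts [one_mem _, hl, hconj]
    have := Set.ncard_le_ncard hsub (Set.toFinite _)
    rw [Set.ncard_eq_three.2 ⟨_, _, _, Ne.symm hl1, hc1.symm, hne'.symm, rfl⟩,
      ← Nat.card_coe_set_eq] at this
    simp only [SetLike.coe_sort_coe] at this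
    omega
  exfalso
  rcases hs with ⟨h4, -, hsq⟩ | ⟨⟨e⟩⟩
  · have hL : L = C := by
      refine eq_of_le_of_card_ge hLC ?_
      have hd := Subgroup.card_dvd_of_le hLC
      rw [h4] at hd ⊢
      have := Nat.le_of_dvd (by norm_num) hd
      interval_cases Nat.card L <;> simp_all
    have hLsq : ∀ l ∈ L, l * l = 1 := fun l hl => congrArg Subtype.val (hsq ⟨l, hLC hl⟩)
    have hL4 : Nat.card L = 4 := hL ▸ h4
    obtain ⟨z, hzL, hzc, hzo⟩ := Cfsg.Lib.PGroups.exists_mem_center_of_normal_ne_bot (p := 2)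
      c.pgroup (N := L.subgroupOf X) (fun h => by
        have h1 := congrArg Nat.card (congrArg (fun H : Subgroup X => (H : Type _)) h)
        rw [Nat.card_congr (Subgroup.subgroupOfEquivOfLe hLX).toEquiv, hL4, Subgroup.card_bot] at h1
        omega)
    have hz1 : (z : S) ≠ 1 := fun h => by
      rw [show z = 1 from Subtype.ext h, orderOf_one] at hzo
      omega
    have hXz : ∀ a ∈ X, a * (z : S) = z * a := fun a ha =>
      congrArg Subtype.val (mem_center_iff.1 hzc ⟨a, ha⟩)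
    have hle := card_le_of_movers X C fun a ha b hb ha' hb' => mem_inf.2 ⟨mul_mem ha hb,
      four_product hL4 hLsq hzL hz1 (hXz a ha) (hXz b hb)
        (fun h => ha' (mem_inf.2 ⟨ha, h⟩)) fun h => hb' (mem_inf.2 ⟨hb, h⟩)⟩
    rw [inf_eq_right.2 (inf_le_left : C ≤ X), h4] at hle
    exact not_eight_comm c hna hle
  · have hsub : (L : Set S) ⊆ {1, ((e.symm (.a 2) : C) : S)} := by
      intro l hl
      have hcen : ∀ v, e ⟨l, hLC hl⟩ * v = v * e ⟨l, hLC hl⟩ := by
        intro v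
        obtain ⟨u, rfl⟩ := e.surjective v
        rw [← map_mul, ← map_mul]
        exact congrArg e (Subtype.ext ((mem_centralizer_iff.1 (mem_inf.1 u.2).2) l hl))
      rcases q8_two _ (q8_center _ hcen) with h | h
      · exact Or.inl (congrArg Subtype.val (show (⟨l, hLC hl⟩ : C) = 1 from e.injective (by rw [h, map_one])))
      · exact Or.inr (congrArg Subtype.val (show (⟨l, hLC hl⟩ : C) = e.symm (.a 2) from
          e.injective (by rw [h, MulEquiv.apply_symm_apply])))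
    have := (Set.ncard_le_ncard hsub).trans (Set.ncard_insert_le _ _)
    rw [← Nat.card_coe_set_eq, Set.ncard_singleton] at this
    simp only [SetLike.coe_sort_coe] at this
    omega

theorem comm_mem_Zs (c : Ctx X K) [X.Normal] (hna : ¬ ∀ a ∈ X, ∀ b ∈ X, a * b = b * a) {x y : S}
    (hx : x ∈ X) (hy : y ∈ X) : ⁅x, y⁆ ∈ Zs X := by
  classical
  haveI := Fact.mk Nat.prime_two
  haveI := c.pgroup.isNilpotent
  obtain ⟨N, hN⟩ := Subgroup.nilpotent_iff_lowerCentralSeries.1 (inferInstance : Group.IsNilpotent X)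
  set γ := fun n => (⊤ : Subgroup X).lowerCentralSeries n with hγ
  have hex : ∃ n, γ n ≤ center X := ⟨N, hN.le.trans bot_le⟩
  by_cases h1 : γ 1 ≤ center X
  · rw [← Zs_map]
    refine ⟨⁅(⟨x, hx⟩ : X), (⟨y, hy⟩ : X)⁆, h1 ?_, by simp [map_commutatorElement]⟩
    show _ ∈ (⊤ : Subgroup X).lowerCentralSeries 1
    rw [top_lowerCentralSeries_one, _root_.commutator_def]
    exact commutator_mem_commutator (mem_top _) (mem_top _)
  exfalso
  set m := Nat.find hex with hm
  have hm2 : 2 ≤ m := by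
    by_contra hlt
    exact h1 ((Subgroup.lowerCentralSeries_antitone _ (show m ≤ 1 by omega)).trans (Nat.find_spec hex))
  obtain ⟨j, hj⟩ : ∃ j, m = j + 2 := ⟨m - 2, by omega⟩
  set L := γ (j + 1) with hL
  have hrot : ⁅⁅(⊤ : Subgroup X), L⁆, (⊤ : Subgroup X)⁆ = ⊥ := by
    have : ⁅(⊤ : Subgroup X), L⁆ ≤ center X := by
      rw [Subgroup.commutator_comm, hL, hγ]
      simp only
      rw [← Subgroup.lowerCentralSeries_succ]
      exact hj ▸ Nat.find_spec hex
    rw [commutator_eq_bot_iff_le_centralizer]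
    exact this.trans (center_le_centralizer _)
  have hcom : ⁅L, L⁆ = ⊥ := by
    refine le_bot_iff.1 (le_trans (commutator_mono (le_trans ?_ le_rfl) le_rfl)
      (commutator_commutator_eq_bot_of_rotate hrot ?_).le)
    · rw [hL, hγ]
      exact (Subgroup.lowerCentralSeries_antitone _ (show 1 ≤ j + 1 by omega)).trans
        (by rw [top_lowerCentralSeries_one, _root_.commutator_def])
    · rw [Subgroup.commutator_comm L]
      exact hrot
  haveI : (L.map X.subtype).Normal := by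
    haveI : L.Characteristic := by rw [hL, hγ]; infer_instance
    infer_instance
  have hle := le_Zs c hna (L.map X.subtype) (map_subtype_le L) (by
    rintro _ ⟨a, ha, rfl⟩ _ ⟨b, hb, rfl⟩
    rw [commutator_eq_bot_iff_le_centralizer] at hcom
    rw [← map_mul, ← map_mul, (mem_centralizer_iff.1 (hcom hb)) a ha])
  rw [← Zs_map, Subgroup.map_le_map_iff_of_injective X.subtype_injective] at hle
  exact Nat.find_min hex (show j + 1 < m by omega) hle

/-- `⁅x, y⁆ ^ 2 = 1`. -/
theorem comm_sq (c : Ctx X K) [X.Normal] (hna : ¬ ∀ a ∈ X, ∀ b ∈ X, a * b = b * a) {x y : S}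
    (hx : x ∈ X) (hy : y ∈ X) : ⁅x, y⁆ * ⁅x, y⁆ = 1 := by
  haveI := Fact.mk Nat.prime_two
  have hZ : ∀ {a b : S}, a ∈ X → b ∈ X → ∀ g ∈ X, Commute ⁅a, b⁆ g := fun ha hb g hg =>
    ((mem_Zs.1 (comm_mem_Zs c hna ha hb)).2 g hg).symm
  have step : ∀ n : ℕ, (∀ a ∈ X, ∀ b ∈ X, ⁅a, b⁆ ^ 2 ^ (n + 2) = 1) →
      ∀ a ∈ X, ∀ b ∈ X, ⁅a, b⁆ ^ 2 ^ (n + 1) = 1 := by
    intro n hn a ha b hb
    set U := closure {u : S | ∃ x ∈ X, u = x ^ 2 ^ (n + 1)} with hU
    have hUX : U ≤ X := (closure_le _).2 fun u ⟨x, hx, e⟩ => e ▸ pow_mem hx _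
    haveI : U.Normal := by
      refine ⟨fun u hu g => ?_⟩
      have : U.map (MulAut.conj g).toMonoidHom ≤ U := by
        rw [hU, MonoidHom.map_closure]
        refine closure_mono ?_
        rintro _ ⟨u, ⟨x, hx, rfl⟩, rfl⟩
        exact ⟨g * x * g⁻¹, Normal.conj_mem inferInstance x hx g, by
          rw [map_pow]; rfl⟩
      exact this ⟨u, hu, rfl⟩
    have hgen : ∀ u ∈ {u : S | ∃ x ∈ X, u = x ^ 2 ^ (n + 1)},
        ∀ v ∈ {u : S | ∃ x ∈ X, u = x ^ 2 ^ (n + 1)}, Commute u v := by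
      rintro _ ⟨x, hx, rfl⟩ _ ⟨y, hy, rfl⟩
      have h1 : ⁅x ^ 2 ^ (n + 1), y⁆ = ⁅x, y⁆ ^ 2 ^ (n + 1) :=
        Cfsg.Lib.PGroups.commutator_pow_left_of_commute (hZ hx hy x hx) _
      have h2 : ⁅x ^ 2 ^ (n + 1), y ^ 2 ^ (n + 1)⁆ = (⁅x, y⁆ ^ 2 ^ (n + 1)) ^ 2 ^ (n + 1) := by
        rw [Cfsg.Lib.PGroups.commutator_pow_right_of_commute (by rw [h1]; exact (hZ hx hy y hy).pow_left _), h1]
      refine commutatorElement_eq_one_iff_commute.1 ?_
      rw [h2, ← pow_mul, ← pow_add, show n + 1 + (n + 1) = n + 2 + n by omega, pow_add, pow_mul,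
        hn x hx y hy, one_pow]
    have hUc : ∀ u ∈ U, ∀ v ∈ U, u * v = v * u := by
      intro u hu v hv
      induction hu, hv using closure_induction₂ with
      | mem u v hu hv => exact hgen u hu v hv
      | one_left v _ => simp
      | one_right u _ => simp
      | mul_left _ _ _ _ _ _ h1 h2 => exact Commute.mul_left h1 h2
      | mul_right _ _ _ _ _ _ h1 h2 => exact Commute.mul_right h1 h2
      | inv_left _ _ _ _ h => exact Commute.inv_left h
      | inv_right _ _ _ _ h => exact Commute.inv_right h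
    have hm := le_Zs c hna U hUX hUc (subset_closure ⟨a, ha, rfl⟩)
    rw [← Cfsg.Lib.PGroups.commutator_pow_left_of_commute (hZ ha hb a ha)]
    exact commutatorElement_eq_one_iff_mul_comm.2 ((mem_Zs.1 hm).2 b hb).symm
  obtain ⟨N, hN⟩ := IsPGroup.iff_card.1 c.pgroup
  have base : ∀ a ∈ X, ∀ b ∈ X, ⁅a, b⁆ ^ 2 ^ (N + 1) = 1 := by
    intro a ha b hb
    have := congrArg Subtype.val
      (pow_card_eq_one' (x := (⟨⁅a, b⁆, (mem_Zs.1 (comm_mem_Zs c hna ha hb)).1⟩ : X)))
    rw [hN, Subgroup.coe_pow, Subgroup.coe_one] at this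
    rw [pow_succ, pow_mul, this, one_pow]
  have hdown : ∀ j ≤ N, ∀ a ∈ X, ∀ b ∈ X, ⁅a, b⁆ ^ 2 ^ (N - j + 1) = 1 := by
    intro j hj
    induction j with
    | zero => simpa using base
    | succ j ih =>
        have h := ih (by omega)
        rw [show N - j + 1 = N - (j + 1) + 2 by omega] at h
        exact step _ h
  have := hdown N le_rfl x hx y hy
  simpa [pow_two] using this

theorem sq_mem_Zs (c : Ctx X K) [X.Normal] (hna : ¬ ∀ a ∈ X, ∀ b ∈ X, a * b = b * a) {x : S}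
    (hx : x ∈ X) : x * x ∈ Zs X := by
  refine mem_Zs.2 ⟨mul_mem hx hx, fun y hy => (Commute.symm ?_).eq⟩
  refine commutatorElement_eq_one_iff_commute.1 ?_
  rw [← pow_two, Cfsg.Lib.PGroups.commutator_pow_left_of_commute
    ((mem_Zs.1 (comm_mem_Zs c hna hx hy)).2 x hx).symm, pow_two]
  exact comm_sq c hna hx hy

theorem frattini_map_le (c : Ctx X K) (N : Subgroup S) [N.Normal]
    (hsq : ∀ x ∈ X, x * x ∈ N) (hcomm : ∀ x ∈ X, ∀ y ∈ X, ⁅x, y⁆ ∈ N) :
    (frattini X).map X.subtype ≤ N := by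
  haveI := Fact.mk Nat.prime_two
  have := Cfsg.Lib.PGroups.SpecialCoprime.frattini_le_of_elementary (p := 2) (N.subgroupOf X)
    (fun g => by rw [pow_two]; exact hsq g g.2) (by
      rw [commutator_eq_closure, closure_le]
      rintro _ ⟨a, b, rfl⟩
      exact hcomm a a.2 b b.2)
  rintro _ ⟨g, hg, rfl⟩
  exact this hg

/-- The subgroup of elements with square in a central subgroup containing the commutators. -/
def sqPre (X N : Subgroup S) (hN : N ≤ Zs X) (hcomm : ∀ x ∈ X, ∀ y ∈ X, ⁅x, y⁆ ∈ N) : Subgroup S where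
  carrier := {x | x ∈ X ∧ x * x ∈ N}
  one_mem' := ⟨one_mem _, by simp⟩
  mul_mem' := by
    rintro x y ⟨hx, hxx⟩ ⟨hy, hyy⟩
    refine ⟨mul_mem hx hy, ?_⟩
    have : x * y * (x * y) = x * x * ⁅x⁻¹, y⁆ * (y * y) := by rw [commutatorElement_def]; group
    rw [this]
    exact mul_mem (mul_mem hxx (hcomm _ (inv_mem hx) _ hy)) hyy
  inv_mem' := by
    rintro x ⟨hx, hxx⟩
    exact ⟨inv_mem hx, by rw [← mul_inv_rev]; exact inv_mem hxx⟩

omit [Finite S] in
theorem mem_sqPre {N : Subgroup S} {hN : N ≤ Zs X} {hcomm : ∀ x ∈ X, ∀ y ∈ X, ⁅x, y⁆ ∈ N} {x : S} :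
    x ∈ sqPre X N hN hcomm ↔ x ∈ X ∧ x * x ∈ N := Iff.rfl

omit [Finite S] in
theorem sqPre_normal [X.Normal] {N : Subgroup S} [N.Normal] {hN : N ≤ Zs X}
    {hcomm : ∀ x ∈ X, ∀ y ∈ X, ⁅x, y⁆ ∈ N} : (sqPre X N hN hcomm).Normal := by
  refine ⟨fun x hx g => ⟨Normal.conj_mem inferInstance x hx.1 g, ?_⟩⟩
  rw [show g * x * g⁻¹ * (g * x * g⁻¹) = g * (x * x) * g⁻¹ by group]
  exact Normal.conj_mem inferInstance _ hx.2 g

theorem zmod_two_add : (0 : ZMod 2) = 1 + 1 := by decide

theorem zmod_two_iff : ∀ u v : ZMod 2, u + v = 0 ↔ (u = 0 ↔ v = 0) := by decide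

/-- An invariant complement of index two to a central element outside the Frattini subgroup. -/
theorem exists_complement (c : Ctx X K) [X.Normal] {w : S} (hw : w ∈ Zs X)
    (hwΦ : w ∉ (frattini X).map X.subtype)
    (hfix : ∀ g : S, (g * w * g⁻¹)⁻¹ * w ∈ (frattini X).map X.subtype) :
    ∃ Y : Subgroup S, Y.Normal ∧ Y ≤ X ∧ w ∉ Y ∧ (∀ a ∈ X, ∀ b ∈ X, a * b ∈ Y ↔ (a ∈ Y ↔ b ∈ Y)) := by
  classical
  haveI := Fact.mk Nat.prime_two
  have hwX : w ∈ X := (mem_Zs.1 hw).1
  obtain ⟨M, hM, hwM⟩ : ∃ M : Subgroup X, IsCoatom M ∧ (⟨w, hwX⟩ : X) ∉ M := by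
    by_contra! hcon
    refine hwΦ ⟨⟨w, hwX⟩, ?_, rfl⟩
    simp only [SetLike.mem_coe, frattini, Order.radical, Subgroup.mem_iInf]
    exact hcon
  obtain ⟨-, hMi⟩ := Cfsg.Lib.PGroups.coatom_normal_index c.pgroup hM
  let χ : X → ZMod 2 := fun x => if x ∈ M then 0 else 1
  have hχ : ∀ a b : X, χ (a * b) = χ a + χ b := by
    intro a b
    simp only [χ, Subgroup.mul_mem_iff_of_index_two hMi]
    by_cases ha : a ∈ M <;> by_cases hb : b ∈ M <;> simp [ha, hb, zmod_two_add]
  haveI : Fintype K := Fintype.ofFinite K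
  let cj : K → X → X := fun k x => ⟨(k : S) * x * (k : S)⁻¹, Normal.conj_mem inferInstance _ x.2 k⟩
  let Λ : X → ZMod 2 := fun x => ∑ k : K, χ (cj k x)
  have hΛ : ∀ a b : X, Λ (a * b) = Λ a + Λ b := by
    intro a b
    simp only [Λ, ← Finset.sum_add_distrib]
    refine Finset.sum_congr rfl fun k _ => ?_
    rw [← hχ]
    congr 1
    exact Subtype.ext (by simp [cj, mul_assoc])
  have hΛ1 : Λ 1 = 0 := by
    have := hΛ 1 1
    rw [one_mul] at this
    exact left_eq_add.1 this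
  have hΛw : Λ ⟨w, hwX⟩ = 1 := by
    have h1 : ∀ k : K, χ (cj k ⟨w, hwX⟩) = 1 := fun k => by
      show (if _ then _ else _) = _
      rw [if_neg]
      intro h
      have hd : (cj k ⟨w, hwX⟩)⁻¹ * ⟨w, hwX⟩ ∈ frattini X := by
        obtain ⟨u, hu, hu'⟩ := hfix k
        have e : (cj k ⟨w, hwX⟩)⁻¹ * ⟨w, hwX⟩ = u := Subtype.ext hu'.symm
        rw [e]
        exact hu
      have := mul_mem h (frattini_le_coatom hM hd)
      rw [mul_inv_cancel_left] at this
      exact hwM this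
    simp only [Λ, h1, Finset.sum_const, Finset.card_univ, ← Nat.card_eq_fintype_card, nsmul_one]
    exact ZMod.natCast_eq_one_iff_odd.2 c.oddK
  let Y₀ : Subgroup X :=
    { carrier := {x | Λ x = 0}
      one_mem' := hΛ1
      mul_mem' := fun {a b} ha hb => by
        simp only [Set.mem_setOf_eq] at ha hb ⊢
        rw [hΛ, ha, hb, add_zero]
      inv_mem' := fun {a} ha => by
        simp only [Set.mem_setOf_eq] at ha ⊢
        have := hΛ a a⁻¹
        rw [mul_inv_cancel, hΛ1, ha, zero_add] at this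
        exact this.symm }
  have hmem : ∀ x : X, x ∈ Y₀ ↔ Λ x = 0 := fun x => Iff.rfl
  have hiff : ∀ a b : X, a * b ∈ Y₀ ↔ (a ∈ Y₀ ↔ b ∈ Y₀) := by
    intro a b
    simp only [hmem, hΛ]
    revert a b
    intro a b
    generalize Λ a = u; generalize Λ b = v
    exact zmod_two_iff u v
  refine ⟨Y₀.map X.subtype, ?_, map_subtype_le _, ?_, ?_⟩
  · rw [← normalizer_eq_top_iff, eq_top_iff, ← c.sup]
    refine sup_le (fun k hk => ?_) fun g hg => ?_
    · have hinv : ∀ (k₀ : K) (x : X), x ∈ Y₀ → cj k₀ x ∈ Y₀ := by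
        intro k₀ x hx
        rw [hmem] at hx ⊢
        have : Λ (cj k₀ x) = Λ x := by
          refine Fintype.sum_equiv (Equiv.mulRight k₀) _ _ fun k => ?_
          congr 1
          exact Subtype.ext (by simp [cj, mul_assoc])
        rw [this, hx]
      rw [Subgroup.mem_normalizer_iff]
      intro h
      constructor
      · rintro ⟨x, hx, rfl⟩
        exact ⟨_, hinv ⟨k, hk⟩ x hx, rfl⟩
      · rintro ⟨x, hx, he⟩
        refine ⟨_, hinv ⟨k, hk⟩⁻¹ x hx, ?_⟩
        show k⁻¹ * (X.subtype x) * k⁻¹⁻¹ = h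
        rw [he]; group
    · rw [Subgroup.mem_normalizer_iff]
      intro h
      have hconjY : ∀ (g x : X), x ∈ Y₀ → g * x * g⁻¹ ∈ Y₀ := by
        intro g x hx
        rw [hmem] at hx ⊢
        have := hΛ g g⁻¹
        rw [mul_inv_cancel, hΛ1] at this
        rw [hΛ, hΛ, hx, add_zero, ← this]
      constructor
      · rintro ⟨x, hx, rfl⟩
        exact ⟨_, hconjY ⟨g, hg⟩ x hx, rfl⟩
      · rintro ⟨x, hx, he⟩
        refine ⟨_, hconjY ⟨g, hg⟩⁻¹ x hx, ?_⟩
        show g⁻¹ * (X.subtype x) * g⁻¹⁻¹ = h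
        rw [he]; group
  · rintro ⟨x, hx, hxe⟩
    have hxw : x = ⟨w, hwX⟩ := Subtype.ext hxe
    rw [hxw] at hx
    rw [SetLike.mem_coe, hmem, hΛw] at hx
    exact one_ne_zero hx
  · intro a ha b hb
    have hm : ∀ {v : S} (hv : v ∈ X), v ∈ Y₀.map X.subtype ↔ (⟨v, hv⟩ : X) ∈ Y₀ := fun hv =>
      Subgroup.mem_map_iff_mem X.subtype_injective (x := ⟨_, hv⟩)
    rw [hm (mul_mem ha hb), hm ha, hm hb]
    exact hiff ⟨a, ha⟩ ⟨b, hb⟩

/-- The option `X = X₀ C(X₀)` with `X₀` quaternion. -/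
theorem option_three (c : Ctx X K) [X.Normal] (hna : ¬ ∀ a ∈ X, ∀ b ∈ X, a * b = b * a)
    (hΦ2 : Nat.card ((frattini X).map X.subtype) = 2) (hΦZ : (frattini X).map X.subtype ≤ Zs X)
    (hZ4 : Nat.card (Zs X) = 4) :
    ∃ X₀ : Subgroup S, X₀ ≤ X ∧ X₀.relIndex X = 2 ∧ Nonempty (X₀ ≃* QuaternionGroup 2) ∧
      X₀ ⊔ (X ⊓ centralizer (X₀ : Set S)) = X := by
  haveI := Fact.mk Nat.prime_two
  set Φ := (frattini X).map X.subtype with hΦ
  haveI : (Zs X).Normal := inferInstanceAs (X ⊓ centralizer (X : Set S)).Normal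
  haveI : Φ.Normal := by rw [hΦ]; infer_instance
  obtain ⟨w, hwZ, hwΦ⟩ : ∃ w ∈ Zs X, w ∉ Φ := SetLike.not_le_iff_exists.1 fun h => by
    have := Subgroup.card_le_of_le h
    omega
  have hidx : (Φ.subgroupOf (Zs X)).index = 2 := by
    have h := (Φ.subgroupOf (Zs X)).card_mul_index
    rw [Nat.card_congr (Subgroup.subgroupOfEquivOfLe hΦZ).toEquiv, hΦ2, hZ4] at h
    omega
  have hout : ∀ a ∈ Zs X, ∀ b ∈ Zs X, a ∉ Φ → b ∉ Φ → a * b ∈ Φ := fun a ha b hb ha' hb' =>
    (Subgroup.mul_mem_iff_of_index_two hidx (a := ⟨a, ha⟩) (b := ⟨b, hb⟩)).2 (iff_of_false ha' hb')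
  have hfix : ∀ g : S, (g * w * g⁻¹)⁻¹ * w ∈ Φ := fun g =>
    hout _ (inv_mem (Normal.conj_mem inferInstance w hwZ g)) w hwZ
      (fun h => hwΦ (by
        have := Normal.conj_mem inferInstance _ (inv_mem h) g⁻¹
        rwa [inv_inv, inv_inv, show g⁻¹ * (g * w * g⁻¹) * g = w by group] at this)) hwΦ
  obtain ⟨Y, hYn, hYX, hwY, hiff⟩ := exists_complement c hwZ hwΦ hfix
  haveI := hYn
  have hwX := (mem_Zs.1 hwZ).1
  have hsplit : ∀ x ∈ X, x ∈ Y ∨ x * w ∈ Y := fun x hx => by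
    by_cases h : x ∈ Y
    · exact Or.inl h
    · exact Or.inr ((hiff x hx w hwX).2 (iff_of_false h hwY))
  have hwc : ∀ x ∈ X, x * w = w * x := (mem_Zs.1 hwZ).2
  rcases oddCent_or_small Y (c.pgroup.to_le hYX)
    (c.small Y hYn (lt_of_le_of_ne hYX fun e => hwY (e ▸ hwX))) with hoc | hs
  · refine absurd (fun k hk x hx => ?_) (c.moved hna)
    have hΦY : Φ ≤ Y := fun u hu => by
      by_contra huY
      obtain ⟨u', hu', rfl⟩ := hu
      have hsub : Y.subgroupOf X ≠ ⊤ := fun e => hwY (by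
        have : (⟨w, hwX⟩ : X) ∈ Y.subgroupOf X := e ▸ mem_top _
        exact this)
      obtain ⟨M, hM, hle⟩ := (eq_top_or_exists_le_coatom (Y.subgroupOf X)).resolve_left hsub
      have hYi : (Y.subgroupOf X).index = 2 := Subgroup.index_eq_two_iff.2 ⟨⟨w, hwX⟩, fun b => by
        by_cases h : (b : S) ∈ Y
        · exact Or.inr ⟨h, fun h' => hwY (((hiff b b.2 w hwX).1 h').1 h)⟩
        · exact Or.inl ⟨(hiff b b.2 w hwX).2 (iff_of_false h hwY), h⟩⟩
      have heq : Y.subgroupOf X = M := by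
        refine eq_of_le_of_card_ge hle ?_
        have h1 := (Y.subgroupOf X).card_mul_index
        have h2 := M.card_mul_index
        rw [hYi] at h1
        rw [(Cfsg.Lib.PGroups.coatom_normal_index c.pgroup hM).2] at h2
        omega
      exact huY (show (u' : X) ∈ Y.subgroupOf X from heq ▸ frattini_le_coatom hM hu')
    have hkw : k * w = w * k := fix_of_mem hk (c.pgroup.to_le hYX) (hΦY (by
      have := hfix k
      have h2 := inv_mem this
      rwa [mul_inv_rev, inv_inv] at h2)) (hoc k hk)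
    rcases hsplit x hx with h | h
    · exact hoc k hk x h
    · exact mul_right_cancel (b := w) (by rw [mul_assoc, hoc k hk _ h, mul_assoc, mul_assoc, hkw])
  rcases hs with ⟨-, hYc, -⟩ | ⟨⟨e⟩⟩
  · refine absurd (fun a ha b hb => ?_) hna
    have key : ∀ u ∈ Y, ∀ v ∈ Y, u * v = v * u := fun u hu v hv =>
      congrArg Subtype.val (hYc ⟨u, hu⟩ ⟨v, hv⟩)
    have caw : Commute a w := hwc a ha
    have cbw : Commute b w := hwc b hb
    have main : ∀ u ∈ X, ∀ v ∈ Y, Commute u v := fun u hu v hv => by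
      rcases hsplit u hu with h | h
      · exact key u h v hv
      · have := Commute.mul_left (key _ h v hv) (show Commute w v from (hwc v (hYX hv)).symm).inv_left
        rwa [mul_inv_cancel_right] at this
    rcases hsplit b hb with h | h
    · exact main a ha b h
    · have := Commute.mul_right (main a ha _ h) caw.inv_right
      rwa [mul_inv_cancel_right] at this
  refine ⟨Y, hYX, ?_, ⟨e⟩, le_antisymm (sup_le hYX inf_le_left) fun x hx => ?_⟩
  · rw [Subgroup.relIndex, Subgroup.index_eq_two_iff]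
    refine ⟨⟨w, hwX⟩, fun b => ?_⟩
    by_cases h : (b : S) ∈ Y
    · exact Or.inr ⟨h, fun h' => hwY (((hiff b b.2 w hwX).1 h').1 h)⟩
    · exact Or.inl ⟨(hiff b b.2 w hwX).2 (iff_of_false h hwY), h⟩
  · have hwC : w ∈ X ⊓ centralizer (Y : Set S) :=
      mem_inf.2 ⟨hwX, mem_centralizer_iff.2 fun y hy => hwc y (hYX hy)⟩
    rcases hsplit x hx with h | h
    · exact mem_sup_left h
    · simpa using mul_mem_sup h (inv_mem hwC)

theorem structure_nonabelian (c : Ctx X K) [X.Normal] (hna : ¬ ∀ a ∈ X, ∀ b ∈ X, a * b = b * a) :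
    (Cfsg.IsExtraspecial 2 X ∧ 32 ≤ Nat.card X) ∨
      (∃ X₀ : Subgroup S, X₀ ≤ X ∧ X₀.relIndex X = 2 ∧ Nonempty (X₀ ≃* QuaternionGroup 2) ∧
        X₀ ⊔ (X ⊓ centralizer (X₀ : Set S)) = X) ∨
      (Cfsg.IsSpecial 2 X ∧ Nat.card (center X) = 4) := by
  haveI := Fact.mk Nat.prime_two
  haveI hXnt : Nontrivial X := by
    by_contra h
    haveI := not_nontrivial_iff_subsingleton.1 h
    exact hna fun a ha b hb => congrArg Subtype.val (Subsingleton.elim (⟨a, ha⟩ * ⟨b, hb⟩ : X) (⟨b, hb⟩ * ⟨a, ha⟩))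
  set Φ := (frattini X).map X.subtype with hΦ
  set D := (commutator X).map X.subtype with hD
  haveI : Φ.Normal := by rw [hΦ]; infer_instance
  haveI : D.Normal := by rw [hD]; infer_instance
  haveI : (Zs X).Normal := inferInstanceAs (X ⊓ centralizer (X : Set S)).Normal
  have hDmem : ∀ x ∈ X, ∀ y ∈ X, ⁅x, y⁆ ∈ D := fun x hx y hy =>
    ⟨⁅(⟨x, hx⟩ : X), (⟨y, hy⟩ : X)⁆, by
      rw [SetLike.mem_coe, _root_.commutator_def]
      exact commutator_mem_commutator (mem_top _) (mem_top _), by simp [map_commutatorElement]⟩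
  have hDΦ : D ≤ Φ := Subgroup.map_mono (Cfsg.Lib.PGroups.commutator_le_frattini c.pgroup)
  have hsqΦ : ∀ x ∈ X, x * x ∈ Φ := fun x hx =>
    ⟨⟨x, hx⟩ ^ 2, Cfsg.Lib.PGroups.pow_mem_frattini c.pgroup _, by simp [pow_two]⟩
  have hΦZ : Φ ≤ Zs X := frattini_map_le c (Zs X) (fun x hx => sq_mem_Zs c hna hx)
    (fun x hx y hy => comm_mem_Zs c hna hx hy)
  have hZX : Zs X < X := lt_of_le_of_ne inf_le_left fun e => hna fun a ha b hb =>
    (mem_Zs.1 (e.ge hb)).2 a ha
  have hNNZ := c.small (Zs X) inferInstance hZX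
  have hZp : IsPGroup 2 (Zs X) := c.pgroup.to_le inf_le_left
  have hΦ1 : Nat.card Φ ≠ 1 := by
    intro h
    refine hna fun a ha b hb => ?_
    have := hDΦ (hDmem a ha b hb)
    rw [Subgroup.card_eq_one.1 h, mem_bot] at this
    exact commutatorElement_eq_one_iff_mul_comm.1 this
  have hD1 : Nat.card D ≠ 1 := by
    intro h
    refine hna fun a ha b hb => ?_
    have := hDmem a ha b hb
    rw [Subgroup.card_eq_one.1 h, mem_bot] at this
    exact commutatorElement_eq_one_iff_mul_comm.1 this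
  have hback : ∀ {H L : Subgroup X}, H.map X.subtype = L.map X.subtype → H = L := fun h =>
    Subgroup.map_injective X.subtype_injective h
  have hcardZ : Nat.card (center X) = Nat.card (Zs X) := by
    rw [← Zs_map, Nat.card_congr ((center X).equivMapOfInjective X.subtype X.subtype_injective).toEquiv]
  rcases comm_cases hZp hNNZ (fun a ha b hb => (mem_Zs.1 hb).2 a (mem_Zs.1 ha).1) with hcyc | ⟨h4, hexp⟩
  · obtain ⟨f, hf⟩ := hcyc.exists_generator
    have hΦcyc : IsCyclic Φ := by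
      haveI := hcyc
      exact isCyclic_of_injective (Subgroup.inclusion hΦZ) (Subgroup.inclusion_injective hΦZ)
    by_cases hΦ2 : Nat.card Φ = 2
    · have hz4 : ∀ z ∈ Zs X, z ^ 4 = 1 := fun z hz => by
        have h1 := congrArg Subtype.val
          (pow_card_eq_one' (x := (⟨z * z, hsqΦ z (mem_Zs.1 hz).1⟩ : Φ)))
        rw [hΦ2] at h1
        calc z ^ 4 = (z * z) ^ 2 := by rw [← pow_two, ← pow_mul]
          _ = 1 := h1
      have hdvd : Nat.card (Zs X) ∣ 4 := by
        rw [← orderOf_eq_card_of_forall_mem_zpowers hf]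
        exact orderOf_dvd_of_pow_eq_one (Subtype.ext (hz4 f f.2))
      have hle := Subgroup.card_le_of_le hΦZ
      have hDeq : D = Φ := eq_of_le_of_card_ge hDΦ (by
        have h1 := Subgroup.card_dvd_of_le hDΦ
        rw [hΦ2] at h1 ⊢
        rcases (Nat.dvd_prime Nat.prime_two).1 h1 with h | h <;> omega)
      have : Nat.card (Zs X) = 2 ∨ Nat.card (Zs X) = 4 := by
        have := Nat.le_of_dvd (by norm_num) hdvd
        interval_cases hh : Nat.card (Zs X) <;> simp_all
      rcases this with h2 | h4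
      · refine Or.inl ?_
        have hZe : Φ = Zs X := eq_of_le_of_card_ge hΦZ (by omega)
        have hes : Cfsg.IsExtraspecial 2 X := ⟨⟨c.pgroup, hback (by rw [← hΦ, hZe, Zs_map]),
          hback (by rw [← hD, hDeq, hZe, Zs_map])⟩, by rw [hcardZ, h2]⟩
        refine ⟨hes, ?_⟩
        obtain ⟨n, hn1, hn⟩ := Cfsg.Lib.SolvStruct.extraspecial_card_odd_power hes
        have hn2 : 2 ≤ n := by
          by_contra h
          have : n = 1 := by omega
          subst this
          exact not_eight_comm c hna (by rw [hn]; norm_num)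
        calc 32 = 2 ^ (2 * 2 + 1) := by norm_num
          _ ≤ 2 ^ (2 * n + 1) := Nat.pow_le_pow_right (by norm_num) (by omega)
          _ = _ := hn.symm
      · exact Or.inr (Or.inl (option_three c hna hΦ2 hΦZ h4))
    · exfalso
      obtain ⟨u, hu⟩ := hΦcyc.exists_generator
      obtain ⟨m, hm⟩ := IsPGroup.iff_card.1 (c.pgroup.to_le (map_subtype_le _) : IsPGroup 2 Φ)
      have hm2 : 2 ≤ m := by
        by_contra h
        have : m = 0 ∨ m = 1 := by omega
        rcases this with rfl | rfl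
        · exact hΦ1 (by simpa using hm)
        · exact hΦ2 (by simpa using hm)
      have hou : orderOf (u : S) = 2 ^ m := by
        rw [Subgroup.orderOf_coe, orderOf_eq_card_of_forall_mem_zpowers hu, hm]
      have hgen : ∀ v ∈ Φ, ∃ i : ℤ, (u : S) ^ i = v := fun v hv => by
        obtain ⟨i, hi⟩ := Subgroup.mem_zpowers_iff.1 (hu ⟨v, hv⟩)
        exact ⟨i, by simpa using congrArg Subtype.val hi⟩
      set N := zpowers ((u : S) * u) with hN
      haveI : N.Normal := by
        refine ⟨fun v hv g => ?_⟩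
        obtain ⟨i, rfl⟩ := mem_zpowers_iff.1 hv
        obtain ⟨j, hj⟩ := hgen _ (Normal.conj_mem inferInstance (u : S) u.2 g)
        refine mem_zpowers_iff.2 ⟨j * i, ?_⟩
        rw [← conj_zpow, show g * ((u : S) * u) * g⁻¹ = g * u * g⁻¹ * (g * u * g⁻¹) by group,
          ← hj, zpow_mul]
        congr 1
        exact (Commute.refl (u : S)).mul_zpow j
      have hNΦ : N ≤ Φ := zpowers_le.2 (mul_mem u.2 u.2)
      have hu2 : (u : S) ∉ N := by
        intro h
        obtain ⟨i, hi⟩ := mem_zpowers_iff.1 h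
        rw [← pow_two, ← zpow_natCast, ← zpow_mul] at hi
        have h1 : (u : S) ^ (2 * i - 1) = 1 := by
          rw [zpow_sub_one, mul_inv_eq_one]; exact_mod_cast hi
        have h2 := orderOf_dvd_iff_zpow_eq_one.2 h1
        rw [hou] at h2
        have h3 : (2 : ℤ) ∣ 2 * i - 1 := (dvd_pow_self (2 : ℤ) (by omega : m ≠ 0)).trans (by exact_mod_cast h2)
        omega
      have hcN : ∀ x ∈ X, ∀ y ∈ X, ⁅x, y⁆ ∈ N := by
        intro x hx y hy
        obtain ⟨i, hi⟩ := hgen _ (hDΦ (hDmem x hx y hy))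
        have h1 : (u : S) ^ (i + i) = 1 := by rw [zpow_add, hi]; exact comm_sq c hna hx hy
        have h2 := orderOf_dvd_iff_zpow_eq_one.2 h1
        rw [hou] at h2
        have h3 : (4 : ℤ) ∣ i + i := by
          refine dvd_trans ?_ h2
          obtain ⟨q, rfl⟩ : ∃ q, m = 2 + q := ⟨m - 2, by omega⟩
          exact ⟨2 ^ q, by push_cast; rw [pow_add]; norm_num⟩
        obtain ⟨j, hj⟩ : (2 : ℤ) ∣ i := by omega
        refine mem_zpowers_iff.2 ⟨j, ?_⟩
        rw [← hi, hj, ← pow_two, ← zpow_natCast, ← zpow_mul]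
        norm_num
      set U := sqPre X N (hNΦ.trans hΦZ) hcN with hU
      haveI : U.Normal := sqPre_normal
      have hUX : U ≤ X := fun x hx => hx.1
      have hUne : U ≠ X := fun e => hu2 (frattini_map_le c N (fun x hx => (e.ge hx).2) hcN u.2)
      have hΦU : Φ ≤ U := fun v hv => by
        obtain ⟨i, rfl⟩ := hgen v hv
        exact ⟨(mem_Zs.1 (hΦZ hv)).1, mem_zpowers_iff.2 ⟨i, (Commute.refl (u : S)).mul_zpow i⟩⟩
      have hidx : ∀ a ∈ X, ∀ b ∈ X, a ∉ U → b ∉ U → a * b ∈ U := by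
        intro a ha b hb ha' hb'
        refine ⟨mul_mem ha hb, ?_⟩
        have e : a * b * (a * b) = a * a * ⁅a⁻¹, b⁆ * (b * b) := by rw [commutatorElement_def]; group
        have hab : a * a * (b * b) ∈ N := by
          obtain ⟨i, hi⟩ := hgen _ (hsqΦ a ha)
          obtain ⟨j, hj⟩ := hgen _ (hsqΦ b hb)
          have hodd : ∀ {v : S} {k : ℤ}, v ∈ X → (u : S) ^ k = v * v → v ∉ U → ¬ (2 : ℤ) ∣ k := by
            rintro v k hv hk hv' ⟨r, rfl⟩
            refine hv' ⟨hv, mem_zpowers_iff.2 ⟨r, ?_⟩⟩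
            rw [← hk, ← pow_two, ← zpow_natCast, ← zpow_mul]
            norm_num
          have h1 := hodd ha hi ha'
          have h2 := hodd hb hj hb'
          obtain ⟨r, hr⟩ : (2 : ℤ) ∣ i + j := by omega
          refine mem_zpowers_iff.2 ⟨r, ?_⟩
          rw [← hi, ← hj, ← zpow_add, hr, ← pow_two, ← zpow_natCast, ← zpow_mul]
          norm_num
        have hbb : ⁅a⁻¹, b⁆ * (b * b) = b * b * ⁅a⁻¹, b⁆ :=
          ((mem_Zs.1 (hΦZ (hsqΦ b hb))).2 _ ((mem_Zs.1 (comm_mem_Zs c hna (inv_mem ha) hb)).1))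
        rw [e, mul_assoc, hbb, ← mul_assoc]
        exact mul_mem hab (hcN _ (inv_mem ha) _ hb)
      rcases oddCent_or_small U (c.pgroup.to_le hUX) (c.small U inferInstance (lt_of_le_of_ne hUX hUne)) with hoc | hs
      · refine c.moved hna fun k hk x hx => ?_
        by_cases hxU : x ∈ U
        · exact hoc k hk x hxU
        refine fix_of_mem hk (c.pgroup.to_le hUX) (hidx _ (inv_mem hx) _ (Normal.conj_mem inferInstance x hx k)
          (fun h => hxU ((inv_mem_iff).1 h)) fun h => hxU ?_) (hoc k hk)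
        have := Normal.conj_mem inferInstance _ h k⁻¹
        rwa [inv_inv, show k⁻¹ * (k * x * k⁻¹) * k = x by group] at this
      · have huu : (u : S) * u = 1 := by
          rcases hs with ⟨-, -, hsq⟩ | ⟨⟨e⟩⟩
          · exact congrArg Subtype.val (hsq ⟨u, hΦU u.2⟩)
          · have h := q8_center (e ⟨u, hΦU u.2⟩) fun v => by
              obtain ⟨t, rfl⟩ := e.surjective v
              rw [← map_mul, ← map_mul]
              exact congrArg e (Subtype.ext ((mem_Zs.1 (hΦZ u.2)).2 t (hUX t.2)).symm)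
            rw [← map_mul, MulEquiv.map_eq_one_iff] at h
            exact congrArg Subtype.val h
        have h2 := orderOf_dvd_of_pow_eq_one (show (u : S) ^ 2 = 1 by rw [pow_two, huu])
        rw [hou] at h2
        have := Nat.le_of_dvd two_pos h2
        have : 2 ^ 2 ≤ 2 ^ m := Nat.pow_le_pow_right two_pos hm2
        omega
  · by_cases hDZ : D = Zs X
    · refine Or.inr (Or.inr ?_)
      have hΦe : Φ = Zs X := le_antisymm hΦZ (hDZ ▸ hDΦ)
      exact ⟨⟨c.pgroup, hback (by rw [← hΦ, hΦe, Zs_map]), hback (by rw [← hD, hDZ, Zs_map])⟩,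
        by rw [hcardZ, h4]⟩
    · have hDZle : D ≤ Zs X := hDΦ.trans hΦZ
      have hD2 : Nat.card D = 2 := by
        have h1 := Subgroup.card_dvd_of_le hDZle
        rw [h4] at h1
        have hne : Nat.card D ≠ 4 := fun h => hDZ (eq_of_le_of_card_ge hDZle (by omega))
        have := Nat.le_of_dvd (by norm_num) h1
        interval_cases hh : Nat.card D <;> simp_all
      refine Or.inr (Or.inl (option_three c hna ?_ hΦZ h4))
      suffices hΦD : Φ ≤ D by rw [show (frattini X).map X.subtype = D from le_antisymm hΦD hDΦ, hD2]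
      refine frattini_map_le c D (fun x hx => ?_) hDmem
      set U := sqPre X D hDZle hDmem with hU
      by_contra hxD
      haveI : U.Normal := sqPre_normal
      have hUX : U ≤ X := fun v hv => hv.1
      have hlt : U < X := lt_of_le_of_ne hUX fun e => hxD (e.ge hx).2
      have hUZ : U ≤ Zs X := by
        intro v hv
        obtain ⟨z, hz, hz1⟩ := (Zs X).bot_or_exists_ne_one.resolve_left fun e => by
          rw [e, Subgroup.card_bot] at h4; omega
        obtain ⟨t, ht, ht1, htz⟩ : ∃ t ∈ Zs X, t ≠ 1 ∧ t ≠ z := by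
          by_contra! hcon
          have : (Zs X : Set S) ⊆ {1, z} := fun l hl => by
            by_cases h : l = 1
            · exact Or.inl h
            · exact Or.inr (hcon l hl h)
          have h2 := Set.ncard_le_ncard this
          rw [← Nat.card_coe_set_eq, Set.ncard_pair (Ne.symm hz1)] at h2
          simp only [SetLike.coe_sort_coe] at h2
          omega
        have hsub : ∀ l ∈ Zs X, l ∈ U := fun l hl =>
          ⟨(mem_Zs.1 hl).1, by rw [hexp l hl]; exact one_mem _⟩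
        have hcz : ∀ {l : S}, l ∈ Zs X → ∀ y ∈ X, y * l = l * y := fun hl => (mem_Zs.1 hl).2
        have := four_central (c.pgroup.to_le hUX) (c.small U inferInstance hlt) (hsub z hz) (hsub t ht)
          (hexp z hz) (hexp t ht) (hcz ht z (mem_Zs.1 hz).1) hz1 ht1 (Ne.symm htz) hv
          (hcz hz v hv.1) (hcz ht v hv.1)
        rcases (mem_fourGroup _ _ _).1 this with rfl | rfl | rfl | rfl
        exacts [one_mem _, hz, ht, mul_mem hz ht]
      have hidx : (D.subgroupOf (Zs X)).index = 2 := by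
        have h := (D.subgroupOf (Zs X)).card_mul_index
        rw [Nat.card_congr (Subgroup.subgroupOfEquivOfLe hDZle).toEquiv, hD2, h4] at h
        omega
      refine hna fun a ha b hb => ?_
      have hout : ∀ v ∈ X, v ∉ Zs X → v * v ∉ D := fun v hv hvZ hd => hvZ (hUZ ⟨hv, hd⟩)
      by_cases haZ : a ∈ Zs X
      · exact ((mem_Zs.1 haZ).2 b hb).symm
      by_cases hbZ : b ∈ Zs X
      · exact (mem_Zs.1 hbZ).2 a ha
      have hab : a * b ∈ Zs X := by
        refine hUZ ⟨mul_mem ha hb, ?_⟩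
        have e : a * b * (a * b) = a * a * ⁅a⁻¹, b⁆ * (b * b) := by rw [commutatorElement_def]; group
        have hh : a * a * (b * b) ∈ D := (Subgroup.mul_mem_iff_of_index_two hidx
          (a := ⟨a * a, sq_mem_Zs c hna ha⟩) (b := ⟨b * b, sq_mem_Zs c hna hb⟩)).2
          (iff_of_false (hout a ha haZ) (hout b hb hbZ))
        have hbb : ⁅a⁻¹, b⁆ * (b * b) = b * b * ⁅a⁻¹, b⁆ :=
          ((mem_Zs.1 (sq_mem_Zs c hna hb)).2 _ ((mem_Zs.1 (comm_mem_Zs c hna (inv_mem ha) hb)).1))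
        rw [e, mul_assoc, hbb, ← mul_assoc]
        exact mul_mem hh (hDmem _ (inv_mem ha) _ hb)
      exact mul_left_cancel (a := a) (((mem_Zs.1 hab).2 a ha).trans (mul_assoc a b a))

theorem main (h : Hyp S) (X : Sylow 2 S) :
    (X : Subgroup S).Normal ∧
      (IsMulCommutative (X : Subgroup S) ∨
        (Cfsg.IsExtraspecial 2 (X : Subgroup S) ∧ 32 ≤ Nat.card (X : Subgroup S)) ∨
        (∃ (X₀ : Subgroup S) (k : ℕ), X₀ ≤ (X : Subgroup S) ∧ X₀.relIndex (X : Subgroup S) = 2 ∧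
          Nonempty (X₀ ≃* QuaternionGroup (2 ^ (k + 1))) ∧
            X₀ ⊔ ((X : Subgroup S) ⊓ centralizer (X₀ : Set S)) = (X : Subgroup S)) ∨
        (Cfsg.IsSpecial 2 (X : Subgroup S) ∧ Nat.card (center (X : Subgroup S)) = 4)) := by
  obtain ⟨hn, K, c⟩ := sylow_normal_ctx h X
  refine ⟨hn, ?_⟩
  by_cases hna : ∀ a ∈ (X : Subgroup S), ∀ b ∈ (X : Subgroup S), a * b = b * a
  · exact Or.inl ⟨⟨fun a b => Subtype.ext (hna a a.2 b b.2)⟩⟩
  haveI := hn
  rcases structure_nonabelian c hna with h1 | ⟨X₀, h1, h2, h3, h4⟩ | h1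
  · exact Or.inr (Or.inl h1)
  · exact Or.inr (Or.inr (Or.inl ⟨X₀, 0, h1, h2, h3, h4⟩))
  · exact Or.inr (Or.inr (Or.inr h1))

end Cfsg.Lib.EightMin
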